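import Cfsg.Agent.Lib.MultGTwoFour.Parity
import Cfsg.Prelude.Def_KGroupFacts

/-!
# A double cover of `G₂(4)`

* `exists_cover` : a stem extension with kernel of order two, on signed cosets of `U₃(4)`
-/

set_option autoImplicit false
set_option maxRecDepth 100000

namespace Cfsg.Agent.MultGTwoFour

open Cfsg.Agent.CosetEnum Cfsg.Agent.SuzGTwo Cfsg.Agent.JTwoInGTwo
open Cfsg.Agent.CosetEnum.Data (ev ev_append)
open scoped commutatorElement

/-- The signed points: `2 * coset + sign`. -/
abbrev SPt : Type := Fin 8064

/-- A table on a signed point. -/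
def signStep (T v : ℕ) : ℕ :=
  Nat.xor (Nat.land (Nat.shiftRight T (Nat.mul 13 (Nat.shiftRight v 1))) 8191) (Nat.land v 1)

/-- A list of tables on a signed point. -/
noncomputable def signRunT (l : List ℕ) : ℕ → ℕ :=
  List.rec (motive := fun _ => ℕ → ℕ) (fun v => v) (fun T _ ih v => ih (signStep T v)) l

/-- The tables of a word. -/
def tabsOf (w : List ℕ) : List ℕ := w.map fun a => signTab.getD a 0

/-- Two words act on the even points with images differing by the given sign. -/
noncomputable def signRel (v w : List ℕ) (s : ℕ) : Bool :=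
  let A := tabsOf v
  let B := tabsOf w
  Nat.rec (motive := fun _ => Bool) true
    (fun i ih => Nat.beq (signRunT A (Nat.mul 2 i)) (Nat.xor (signRunT B (Nat.mul 2 i)) s) && ih) 4032

/-- The tables respect the range. -/
def signRange (a : ℕ) : Bool :=
  let T := signTab.getD a 0
  Nat.rec (motive := fun _ => Bool) true (fun i ih => Nat.blt (signStep T (2 * i)) 8064 && ih) 4032

theorem signStep_xor (T v : ℕ) : signStep T (v ^^^ 1) = signStep T v ^^^ 1 := by
  have h2 : (v ^^^ 1).shiftRight 1 = v.shiftRight 1 := by
    show (v ^^^ 1) >>> 1 = v >>> 1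
    rw [Nat.shiftRight_xor_distrib]
    simp
  have hm : (v ^^^ 1).land 1 = (v.land 1) ^^^ 1 := by
    show (v ^^^ 1) &&& 1 = (v &&& 1) ^^^ 1
    rw [Nat.and_xor_distrib_right]
    simp
  unfold signStep
  rw [h2, hm]
  exact (Nat.xor_assoc _ _ _).symm

theorem signRunT_xor : ∀ (l : List ℕ) (v : ℕ), signRunT l (v ^^^ 1) = signRunT l v ^^^ 1
  | [], _ => rfl
  | T :: l, v => by
    show signRunT l (signStep T (v ^^^ 1)) = _
    rw [signStep_xor, signRunT_xor l]
    rfl

theorem eq_even_or_xor {v : ℕ} (hv : v < 8064) : ∃ i < 4032, v = 2 * i ∨ v = (2 * i) ^^^ 1 := by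
  refine ⟨v / 2, by omega, ?_⟩
  rcases Nat.mod_two_eq_zero_or_one v with h | h
  · left; omega
  · right
    have e : 2 * (v / 2) ^^^ 1 = 2 * (v / 2) + 1 := by
      rw [Nat.xor_one_of_even ⟨v / 2, by omega⟩]
    omega

theorem signRel_spec {v w : List ℕ} {s : ℕ} (h : signRel v w s = true) {x : ℕ} (hx : x < 8064) :
    signRunT (tabsOf v) x = signRunT (tabsOf w) x ^^^ s := by
  have hb : ∀ i < 4032, signRunT (tabsOf v) (2 * i) = signRunT (tabsOf w) (2 * i) ^^^ s :=
    fun i hi => Nat.eq_of_beq_eq_true (Data.natRec_all
      (p := fun i => Nat.beq (signRunT (tabsOf v) (2 * i)) (Nat.xor (signRunT (tabsOf w) (2 * i)) s)) h i hi)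
  obtain ⟨i, hi, rfl | rfl⟩ := eq_even_or_xor hx
  · exact hb i hi
  · rw [signRunT_xor, signRunT_xor, hb i hi, Nat.xor_right_comm]

theorem range_ok : ((List.range 6).all signRange) = true := by decide +kernel

theorem four_ok : ((List.range 6).all fun a => signRel [a, a, a, a] [] 0) = true := by decide +kernel

theorem signStep_lt {a : ℕ} (ha : a < 6) {x : ℕ} (hx : x < 8064) : signStep (signTab.getD a 0) x < 8064 := by
  have hb : ∀ i < 4032, signStep (signTab.getD a 0) (2 * i) < 8064 :=
    fun i hi => Nat.blt_eq.mp (Data.natRec_all (p := fun i => Nat.blt (signStep (signTab.getD a 0) (2 * i)) 8064)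
      (List.all_eq_true.1 range_ok a (List.mem_range.2 ha)) i hi)
  obtain ⟨i, hi, rfl | rfl⟩ := eq_even_or_xor hx
  · exact hb i hi
  · have := hb i hi
    rw [signStep_xor]
    rcases Nat.even_or_odd (signStep (signTab.getD a 0) (2 * i)) with he | ho
    · rw [Nat.xor_one_of_even he]; obtain ⟨k, hk⟩ := he; omega
    · rw [Nat.xor_one_of_odd ho]; omega

/-- A letter on signed points. -/
def signMap (a : ℕ) (x : SPt) : SPt := Fin.ofNat 8064 (signStep (signTab.getD a 0) x.val)

theorem signMap_val {a : ℕ} (ha : a < 6) (x : SPt) : (signMap a x).val = signStep (signTab.getD a 0) x.val := by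
  rw [signMap, Fin.val_ofNat, Nat.mod_eq_of_lt (signStep_lt ha x.2)]

theorem signMap_four {a : ℕ} (ha : a < 6) (x : SPt) : signMap a (signMap a (signMap a (signMap a x))) = x := by
  refine Fin.ext ?_
  rw [signMap_val ha, signMap_val ha, signMap_val ha, signMap_val ha]
  exact (signRel_spec (List.all_eq_true.1 four_ok a (List.mem_range.2 ha)) x.2).trans (Nat.xor_zero _)

/-- The permutation of a letter. -/
def signPerm (a : ℕ) : Equiv.Perm SPt :=
  if ha : a < 6 then
    { toFun := signMap a
      invFun := fun x => signMap a (signMap a (signMap a x))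
      left_inv := signMap_four ha
      right_inv := signMap_four ha }
  else 1

theorem signPerm_apply {a : ℕ} (ha : a < 6) (x : SPt) : signPerm a x = signMap a x := by
  rw [signPerm, dif_pos ha]
  rfl

theorem ev_signPerm : ∀ (w : List ℕ), (∀ a ∈ w, a < 6) → ∀ x : SPt,
    (ev signPerm w x).val = signRunT (tabsOf w) x.val
  | [], _, _ => rfl
  | a :: v, hw, x => by
    show ((ev signPerm v * signPerm a) x).val = _
    rw [Equiv.Perm.mul_apply, ev_signPerm v (fun b hb => hw b (List.mem_cons_of_mem a hb)),
      signPerm_apply (hw a List.mem_cons_self), signMap_val (hw a List.mem_cons_self)]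
    rfl

/-- The change of sign. -/
def signFlip (x : SPt) : SPt := Fin.ofNat 8064 (x.val ^^^ 1)

theorem signFlip_val (x : SPt) : (signFlip x).val = x.val ^^^ 1 := by
  rw [signFlip, Fin.val_ofNat, Nat.mod_eq_of_lt]
  have := x.2
  rcases Nat.even_or_odd x.val with he | ho
  · rw [Nat.xor_one_of_even he]; obtain ⟨k, hk⟩ := he; omega
  · rw [Nat.xor_one_of_odd ho]; omega

theorem signFlip_flip (x : SPt) : signFlip (signFlip x) = x :=
  Fin.ext (by rw [signFlip_val, signFlip_val, Nat.xor_assoc, Nat.xor_self, Nat.xor_zero])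

/-- The change of sign as a permutation. -/
def flipPerm : Equiv.Perm SPt where
  toFun := signFlip
  invFun := signFlip
  left_inv := signFlip_flip
  right_inv := signFlip_flip

/-- A relator is plus or minus one on the signed points. -/
noncomputable def relSigned (r : FreeGroup Six) : Bool :=
  let w := sixSetup.wl sixLetters r
  (w.all fun a => Nat.blt a 6) && (signRel w [] 0 || signRel w [] 1)

/-- The relators are plus or minus one on the signed points. -/
noncomputable def relsSigned : Bool := sixSetup.allRels.all relSigned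

theorem rels_signedA : (sixSetup.allRels.take 18).all relSigned = true := by decide +kernel

theorem rels_signedB : ((sixSetup.allRels.drop 18).take 18).all relSigned = true := by decide +kernel

theorem rels_signedC : ((sixSetup.allRels.drop 18).drop 18).all relSigned = true := by decide +kernel

theorem rels_signed : relsSigned = true := by
  rw [relsSigned, ← List.take_append_drop 18 sixSetup.allRels, List.all_append, rels_signedA,
    ← List.take_append_drop 18 (sixSetup.allRels.drop 18), List.all_append, rels_signedB, rels_signedC]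
  rfl

/-- The checks of the commutator. -/
noncomputable def twistOK : Bool :=
  (twistWord.all fun a => Nat.blt a 6) && sameWord ([4] ++ twistWord) (twistWord ++ [4]) &&
    signRel ([4] ++ twistWord) (twistWord ++ [4]) 1

theorem twist_ok : twistOK = true := by decide +kernel

/-- The generators of the cover. -/
def coverGen (a : ℕ) : Equiv.Perm SPt × GSix := (signPerm a, letterEl a)

/-- The cover. -/
def coverGroup : Subgroup (Equiv.Perm SPt × GSix) := Subgroup.closure (coverGen '' {a | a < 6})

theorem exists_cover : ∃ (Γ : Type) (_ : Group Γ) (_ : Finite Γ) (σ : Γ →* GSix),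
    Cfsg.IsStemExtension σ ∧ Nat.card σ.ker = 2 := by
  have : Finite GSix := finite_six
  let σ : coverGroup →* GSix := (MonoidHom.snd _ _).comp coverGroup.subtype
  have hgen : ∀ a < 6, coverGen a ∈ coverGroup := fun a ha => Subgroup.subset_closure ⟨a, ha, rfl⟩
  have hevg : ∀ w : List ℕ, ev coverGen w = (ev signPerm w, ev letterEl w) := by
    intro w
    induction w with
    | nil => rfl
    | cons a v ih =>
      show ev coverGen v * coverGen a = _
      rw [ih]; rfl
  have htw := twist_ok
  simp only [twistOK, Bool.and_eq_true, List.all_eq_true, Nat.blt_eq] at htw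
  obtain ⟨⟨hlt, hG⟩, hP⟩ := htw
  have hAB : ev coverGen twistWord * coverGen 4 = (flipPerm, 1) * (coverGen 4 * ev coverGen twistWord) := by
    have hl1 : ∀ a ∈ [4] ++ twistWord, a < 6 := fun a ha => (List.mem_append.1 ha).elim
      (fun h => by rw [List.mem_singleton.1 h]; decide) (hlt a)
    have hl2 : ∀ a ∈ twistWord ++ [4], a < 6 := fun a ha => (List.mem_append.1 ha).elim (hlt a)
      (fun h => by rw [List.mem_singleton.1 h]; decide)
    have e1 : ev coverGen twistWord * coverGen 4 = ev coverGen ([4] ++ twistWord) := by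
      rw [ev_append, ev_single]
    have e2 : coverGen 4 * ev coverGen twistWord = ev coverGen (twistWord ++ [4]) := by
      rw [ev_append, ev_single]
    rw [e1, e2, hevg, hevg, Prod.mk_mul_mk, one_mul, sameWord_spec hG]
    refine Prod.ext (Equiv.ext fun x => ?_) rfl
    show ev signPerm ([4] ++ twistWord) x = signFlip (ev signPerm (twistWord ++ [4]) x)
    refine Fin.ext ?_
    rw [signFlip_val, ev_signPerm _ hl1, ev_signPerm _ hl2, signRel_spec hP x.2]
  have hA : ev coverGen twistWord ∈ coverGroup := Setup.ev_mem _ _ _ fun a ha => hgen a (hlt a ha)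
  have hflip : ((flipPerm, 1) : Equiv.Perm SPt × GSix) =
      ⁅ev coverGen twistWord, coverGen 4⁆ := by
    rw [commutatorElement_def, hAB]
    group
  have hzmem : ((flipPerm, 1) : Equiv.Perm SPt × GSix) ∈ coverGroup := by
    rw [hflip, commutatorElement_def]
    exact mul_mem (mul_mem (mul_mem hA (hgen 4 (by decide))) (inv_mem hA)) (inv_mem (hgen 4 (by decide)))
  let z : coverGroup := ⟨(flipPerm, 1), hzmem⟩
  have hzc : z ∈ Subgroup.center coverGroup := by
    refine Subgroup.mem_center_iff.2 fun g => Subtype.ext ?_
    have key : (g : Equiv.Perm SPt × GSix) ∈ Subgroup.centralizer {((flipPerm, 1) : Equiv.Perm SPt × GSix)} := by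
      refine (Subgroup.closure_le _).2 ?_ g.2
      rintro _ ⟨a, ha, rfl⟩
      refine Subgroup.mem_centralizer_singleton_iff.2 (Prod.ext (Equiv.ext fun x => ?_) ?_)
      · show signPerm a (signFlip x) = signFlip (signPerm a x)
        rw [signPerm_apply ha, signPerm_apply ha]
        exact Fin.ext (by rw [signMap_val ha, signFlip_val, signFlip_val, signMap_val ha, signStep_xor])
      · show letterEl a * 1 = 1 * letterEl a
        rw [mul_one, one_mul]
    exact Subgroup.mem_centralizer_singleton_iff.1 key
  have hz2 : z * z = 1 := Subtype.ext (Prod.ext (Equiv.ext fun x => flipPerm.left_inv x) (mul_one 1))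
  have hzne : z ≠ 1 := fun h => by
    have := congrArg (fun g : coverGroup => ((g : Equiv.Perm SPt × GSix).1 (0 : SPt)).val) h
    rw [show ((z : Equiv.Perm SPt × GSix).1 (0 : SPt)).val = (0 : SPt).val ^^^ 1 from signFlip_val 0] at this
    exact absurd this (by simp)
  set N := Subgroup.zpowers z with hN
  have : N.Normal := ⟨fun n hn g => by
    have hc : n ∈ Subgroup.center coverGroup := (Subgroup.zpowers_le.2 hzc) hn
    rwa [Subgroup.mem_center_iff.1 hc g, mul_inv_cancel_right]⟩
  let el : ℕ → coverGroup := fun a => if ha : a < 6 then ⟨coverGen a, hgen a ha⟩ else 1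
  have hel : ∀ w : List ℕ, (∀ a ∈ w, a < 6) → ((ev el w : coverGroup) : Equiv.Perm SPt × GSix) = ev coverGen w :=
    fun w hw => by
      rw [← Subgroup.coe_subtype, map_ev]
      exact Setup.ev_congr w fun a ha => by simp only [el, dif_pos (hw a ha)]; rfl
  have hword : ∀ (w : List ℕ) (s : Bool), (∀ a ∈ w, a < 6) → signRel w [] (cond s 1 0) = true →
      ev letterEl w = 1 → ev el w ∈ N := by
    intro w s hw hs hG1
    have hP : ev signPerm w = if s then flipPerm else 1 := Equiv.ext fun x => Fin.ext <| by
      rw [ev_signPerm w hw, signRel_spec hs x.2]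
      cases s
      · exact Nat.xor_zero _
      · exact (signFlip_val x).symm
    cases s
    · rw [show ev el w = 1 from Subtype.ext (by rw [hel w hw, hevg, hP, hG1]; rfl)]
      exact one_mem _
    · rw [show ev el w = z from Subtype.ext (by rw [hel w hw, hevg, hP, hG1]; rfl)]
      exact Subgroup.mem_zpowers z
  have hrs := rels_signed
  simp only [relsSigned, relSigned, Bool.and_eq_true, Bool.or_eq_true, List.all_eq_true, Nat.blt_eq] at hrs
  have hrelG : ∀ r ∈ sixSetup.rels, ev letterEl (sixSetup.wl sixLetters r) = 1 := fun r hr => by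
    show ev sixSetup.el (sixSetup.wl sixLetters r) = 1
    rw [← Setup.mk_eq_ev sixSetup_gens six_letters r]
    exact PresentedGroup.one_of_mem hr
  have hsq : ∀ a < 6, el a * el a ∈ N := by
    intro a ha
    have hok : signRel [a, a] [] 0 = true ∨ signRel [a, a] [] 1 = true := by
      interval_cases a <;> decide +kernel
    have hw : ∀ b ∈ [a, a], b < 6 := by simp [ha]
    have he : ev letterEl [a, a] = 1 := by
      show 1 * letterEl a * letterEl a = 1
      rw [one_mul, letter_sq ha]
    have := hok.elim (fun h => hword _ false hw h he) (fun h => hword _ true hw h he)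
    simpa [ev] using this
  have hrel : ∀ r ∈ sixSetup.rels,
      FreeGroup.lift (fun x : Six => QuotientGroup.mk' N (el x.num)) r = 1 := by
    intro r hr
    obtain ⟨hw, hs⟩ := hrs r (sixSetup.mem_allRels hr)
    rw [Setup.lift_eq_ev (S := sixSetup) (D := sixLetters) (fun x : Six => QuotientGroup.mk' N (el x.num))
      (fun a => QuotientGroup.mk' N (el a)) (fun x => by rw [(num_sg x).1]) (fun x => by
        rw [(num_sg x).1, (num_sg x).2]
        refine (inv_eq_of_mul_eq_one_right ?_).symm
        rw [← map_mul]
        exact (QuotientGroup.eq_one_iff _).2 (hsq _ (by cases x <;> decide))) r, ← map_ev]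
    exact (QuotientGroup.eq_one_iff _).2
      (hs.elim (fun h => hword _ false hw h (hrelG r hr)) fun h => hword _ true hw h (hrelG r hr))
  let ψ : GSix →* coverGroup ⧸ N := PresentedGroup.toGroup hrel
  have hψ : ∀ g : coverGroup, ψ (σ g) = QuotientGroup.mk' N g := by
    rintro ⟨g, hg⟩
    have hψel : ∀ a < 6, ψ (letterEl a) = QuotientGroup.mk' N (el a) := by
      have hx : ∀ x : Six, ψ (PresentedGroup.of x) = QuotientGroup.mk' N (el x.num) := fun x =>
        PresentedGroup.toGroup.of _
      intro a ha
      interval_cases a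
      · exact hx .a
      · exact hx .b
      · exact hx .c
      · exact hx .d
      · exact hx .e
      · exact hx .f
    induction hg using Subgroup.closure_induction with
    | mem x hx =>
      obtain ⟨a, (ha : a < 6), rfl⟩ := hx
      show ψ (letterEl a) = _
      rw [hψel a ha]
      simp only [el, dif_pos ha]
    | one => exact (map_one ψ).trans (map_one (QuotientGroup.mk' N)).symm
    | mul x y hx hy h1 h2 =>
      show ψ (σ (⟨x, hx⟩ * ⟨y, hy⟩)) = QuotientGroup.mk' N (⟨x, hx⟩ * ⟨y, hy⟩)
      rw [map_mul, map_mul, map_mul, h1, h2]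
    | inv x hx h1 =>
      show ψ (σ ⟨x, hx⟩⁻¹) = QuotientGroup.mk' N ⟨x, hx⟩⁻¹
      rw [map_inv, map_inv, map_inv, h1]
  have hker : σ.ker = N := by
    refine le_antisymm (fun g hg => ?_) (Subgroup.zpowers_le.2 rfl)
    have := hψ g
    rw [MonoidHom.mem_ker.1 hg, map_one] at this
    exact (QuotientGroup.eq_one_iff g).1 this.symm
  have hfin : Finite coverGroup := Subtype.finite
  refine ⟨coverGroup, inferInstance, hfin, σ, ⟨?_, ?_, ?_⟩, ?_⟩
  · rw [← MonoidHom.range_eq_top, MonoidHom.range_comp, Subgroup.range_subtype, coverGroup,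
      MonoidHom.map_closure, Set.image_image]
    exact letters_top
  · rw [hker]
    exact Subgroup.zpowers_le.2 hzc
  · rw [hker]
    refine Subgroup.zpowers_le.2 ?_
    have e : z = ⁅(⟨_, hA⟩ : coverGroup), ⟨coverGen 4, hgen 4 (by decide)⟩⁆ := Subtype.ext hflip
    rw [e]
    exact Subgroup.commutator_mem_commutator (Subgroup.mem_top _) (Subgroup.mem_top _)
  · rw [hker, Nat.card_zpowers]
    exact orderOf_eq_prime (by rw [pow_two, hz2]) hzne

end Cfsg.Agent.MultGTwoFour
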