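import Cfsg.Agent.Lib.IcosianGroup.GTwoIndex

/-!
# The five letters of `J₂` inside the presentation of `G₂(4)`

* `fiveSetup`, `card_five_le` : the group presented by the relators in `a, …, e` has order at most `604800`
* `fiveHom`, `fiveHom_injective`, `fiveHom_range` : it is the point stabiliser on the 416 points
-/

set_option autoImplicit false
set_option maxRecDepth 100000

namespace Cfsg.Agent.MultGTwoFour

open Cfsg.Agent.CosetEnum Cfsg.Agent.JTwoInGTwo
open Cfsg.Agent.CosetEnum.Data (ev)

/-- Five generators. -/
inductive Five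
  | a | b | c | d | e
  deriving DecidableEq

/-- generator `a` -/
abbrev va : FreeGroup Five := FreeGroup.of Five.a
/-- generator `b` -/
abbrev vb : FreeGroup Five := FreeGroup.of Five.b
/-- generator `c` -/
abbrev vc : FreeGroup Five := FreeGroup.of Five.c
/-- generator `d` -/
abbrev vd : FreeGroup Five := FreeGroup.of Five.d
/-- generator `e` -/
abbrev ve : FreeGroup Five := FreeGroup.of Five.e

/-- The group presented by the relators in `a, …, e`. -/
def fiveSetup : Setup Five where
  edges := [(.a, 5, .b), (.b, 3, .c), (.c, 8, .d), (.d, 3, .e)]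
  extra := [va * ((vc * vd) ^ 4)⁻¹, ((vb * vc * vd * vc * vd) ^ 5 * ve) ^ 3]
  gens := [.a, .b, .c, .d, .e]
  pos := [0, 1, 2, 3, 4]
  lt := [(.a, true), (.b, true), (.c, true), (.d, true), (.e, true)]

/-- letters -/
def fiveLetters : Data := letterData 5 [0, 1, 2, 3, 4]

theorem fiveSetup_gens : ∀ x, x ∈ fiveSetup.gens := by intro x; cases x <;> simp [fiveSetup]

theorem five_letters : fiveSetup.lettersOK fiveLetters = true := by decide +kernel

theorem five_bound4 :
    Nat.card (fiveSetup.letterGroup [1]) ≤ 2 ∧ Nat.card (fiveSetup.letterGroup [1]) ≠ 0 :=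
  Setup.card_step fiveSetup_gens five_letters suz_lvl4 suz_lvl4_check [1] (by decide +kernel) [] [] []
    (by decide +kernel) (by decide +kernel) (by simp) (by intro w hw; simp at hw) (Setup.bound_nil fiveSetup)

theorem five_bound3 :
    Nat.card (fiveSetup.letterGroup [1, 2]) ≤ 6 ∧ Nat.card (fiveSetup.letterGroup [1, 2]) ≠ 0 :=
  Setup.card_step fiveSetup_gens five_letters suz_lvl3 suz_lvl3_check [1, 2] (by decide +kernel) [vb] [] []
    (by decide +kernel) (by decide +kernel) (by simp) (by intro w hw; simp at hw)
    (Setup.bound_closure fiveSetup_gens five_letters five_bound4 (by decide +kernel))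

theorem five_bound2 :
    Nat.card (fiveSetup.letterGroup [0, 1, 2, 3]) ≤ 2160 ∧
      Nat.card (fiveSetup.letterGroup [0, 1, 2, 3]) ≠ 0 := by
  have h0 := Setup.seed_fixes (hs := [vb, vc]) (emb := [0, 1, 2, 3]) fiveSetup_gens five_letters
    suz_lvl2_seed0_check (by decide +kernel)
  exact Setup.card_step fiveSetup_gens five_letters suz_lvl2 suz_lvl2_check [0, 1, 2, 3] (by decide +kernel)
    [vb, vc] [suz_lvl2_seed0.tgt] [] (by decide +kernel) (by decide +kernel) (by simp) (by
      intro w hw
      simp only [List.mem_cons, List.not_mem_nil, or_false] at hw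
      rcases hw with rfl
      exact h0) (Setup.bound_closure fiveSetup_gens five_letters five_bound3 (by decide +kernel))

theorem card_five_le : Nat.card fiveSetup.G ≤ 604800 ∧ Nat.card fiveSetup.G ≠ 0 := by
  have h0 := Setup.seed_fixes (hs := [va, vb, vc, vd]) (emb := [0, 1, 2, 3, 4]) fiveSetup_gens five_letters
    suz_lvl1_seed0_check (by decide +kernel)
  refine Setup.bound_univ fiveSetup_gens five_letters (emb := [0, 1, 2, 3, 4]) ?_ (by decide +kernel)
  exact Setup.card_step fiveSetup_gens five_letters suz_lvl1 suz_lvl1_check [0, 1, 2, 3, 4] (by decide +kernel)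
    [va, vb, vc, vd] [suz_lvl1_seed0.tgt] [] (by decide +kernel) (by decide +kernel) (by simp) (by
      intro w hw
      simp only [List.mem_cons, List.not_mem_nil, or_false] at hw
      rcases hw with rfl
      exact h0) (Setup.bound_closure fiveSetup_gens five_letters five_bound2 (by decide +kernel))

/-- letter of a generator -/
def Five.num : Five → ℕ
  | .a => 0
  | .b => 1
  | .c => 2
  | .d => 3
  | .e => 4

/-- generator among six -/
def Five.toSix : Five → SuzGTwo.Six
  | .a => .a
  | .b => .b
  | .c => .c
  | .d => .d
  | .e => .e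

theorem five_rels_check :
    (fiveSetup.allRels.all fun r =>
      decide (FreeGroup.map Five.toSix r ∈ SuzGTwo.sixSetup.allRels)) = true := by
  decide +kernel

/-- The map to the group on six letters. -/
noncomputable def fiveHom : fiveSetup.G →* GSix :=
  PresentedGroup.toGroup (f := fun x : Five => (PresentedGroup.of x.toSix : GSix)) fun r hr => by
    have h : FreeGroup.lift (fun x : Five => (PresentedGroup.of x.toSix : GSix)) =
        (PresentedGroup.mk SuzGTwo.sixSetup.rels).comp (FreeGroup.map Five.toSix) := by
      ext x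
      simp [PresentedGroup.of]
    rw [h, MonoidHom.comp_apply]
    exact PresentedGroup.one_of_mem (SuzGTwo.sixSetup.allRels_mem
      (of_decide_eq_true (List.all_eq_true.mp five_rels_check r (fiveSetup.mem_allRels hr))))

theorem fiveHom_of (x : Five) : fiveHom (PresentedGroup.of x) = letterEl x.num := by
  refine (PresentedGroup.toGroup.of _).trans ?_
  cases x <;> rfl

theorem fiveHom_range : fiveHom.range = base := by
  rw [MonoidHom.range_eq_map, ← PresentedGroup.closure_range_of, MonoidHom.map_closure, ← Set.range_comp,
    base_eq]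
  congr 1
  ext g
  constructor
  · rintro ⟨x, rfl⟩
    exact ⟨x.num, by cases x <;> simp [Five.num], (fiveHom_of x).symm⟩
  · rintro ⟨a, (ha : a < 5), rfl⟩
    interval_cases a
    · exact ⟨.a, fiveHom_of .a⟩
    · exact ⟨.b, fiveHom_of .b⟩
    · exact ⟨.c, fiveHom_of .c⟩
    · exact ⟨.d, fiveHom_of .d⟩
    · exact ⟨.e, fiveHom_of .e⟩

theorem fiveHom_injective : Function.Injective fiveHom := by
  have := Nat.finite_of_card_ne_zero card_five_le.2
  have h1 : Nat.card fiveHom.range ≤ Nat.card fiveSetup.G :=
    Nat.card_le_card_of_surjective _ fiveHom.rangeRestrict_surjective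
  rw [fiveHom_range, card_base] at h1
  have hb : Function.Bijective fiveHom.rangeRestrict :=
    (Nat.bijective_iff_surjective_and_card _).mpr
      ⟨fiveHom.rangeRestrict_surjective, by rw [fiveHom_range, card_base]; have := card_five_le.1; omega⟩
  intro x y hxy
  exact hb.1 (Subtype.ext hxy)

end Cfsg.Agent.MultGTwoFour
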