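import Cfsg.Agent.Lib.MultGTwoFour.Word

/-!
# Lifts of the six letters to a central extension with divisible kernel

* `RootExt` : surjective, central kernel with all roots, and a commutation of two conjugate lifts
* `Lifts` : involutory lifts satisfying all relators but `(abcf)^5`
* `exists_lifts`
-/

set_option autoImplicit false
set_option maxRecDepth 100000

namespace Cfsg.Agent.MultGTwoFour

open Cfsg.Agent.CosetEnum Cfsg.Agent.SuzGTwo Cfsg.Agent.JTwoInGTwo
open Cfsg.Agent.CosetEnum.Data (ev ev_append)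

/-- Equal matrices for two words. -/
def sameWord (v w : List ℕ) : Bool :=
  (evP v == evP w) && v.all (fun a => Nat.blt a 6) && w.all fun a => Nat.blt a 6

theorem sameWord_spec {v w : List ℕ} (h : sameWord v w = true) : ev letterEl v = ev letterEl w :=
  ev_eq_of_evP h

/-- The check of one witness. -/
def witOK (t : ℕ × ℕ × List (List ℕ)) : Bool :=
  Nat.blt t.1 6 && Nat.blt t.2.1 6 && (t.2.2.all fun w => sameWord (w ++ [t.1]) (t.1 :: w)) &&
    sameWord (t.2.2.flatMap fun w => w ++ w) [t.2.1]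

theorem wits_ok : squareWits.all witOK = true := by decide +kernel

variable {E : Type*} [Group E] {p : E →* GSix}

/-- A central extension whose kernel has roots. -/
structure RootExt (p : E →* GSix) : Prop where
  surj : Function.Surjective p
  cen : p.ker ≤ Subgroup.center E
  root : ∀ k ∈ p.ker, ∀ n : ℕ, 0 < n → ∃ l ∈ p.ker, l ^ n = k
  twist : ∀ U V : E, p U = letterEl 4 →
    p V = (letterEl 1 * letterEl 2 * letterEl 3 * letterEl 2 * letterEl 3) ^ 5 → Commute U (V * U * V⁻¹)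

theorem RootExt.comm (h : RootExt p) {c : E} (hc : c ∈ p.ker) (g : E) : Commute c g :=
  (Subgroup.mem_center_iff.1 (h.cen hc) g).symm

theorem RootExt.lift_involution (h : RootExt p) {g : GSix} (hg : g * g = 1) :
    ∃ X, p X = g ∧ X * X = 1 := by
  obtain ⟨Y, hY⟩ := h.surj g
  have hk : Y * Y ∈ p.ker := by rw [MonoidHom.mem_ker, map_mul, hY, hg]
  obtain ⟨l, hl, e⟩ := h.root _ hk 2 two_pos
  refine ⟨Y * l⁻¹, by rw [map_mul, map_inv, MonoidHom.mem_ker.1 hl, inv_one, mul_one, hY], ?_⟩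
  rw [← pow_two, ((h.comm hl Y).inv_left.symm).mul_pow, pow_two Y, inv_pow, e, mul_inv_cancel]

theorem inv_of_sq {X : E} (h : X * X = 1) : X⁻¹ = X := inv_eq_of_mul_eq_one_right h

theorem cancel_sq {X : E} (h : X * X = 1) (z : E) : X * (X * z) = z := by rw [← mul_assoc, h, one_mul]

theorem commute_mid {X Y : E} (h : Commute X Y) (z : E) : Y * (X * z) = X * (Y * z) := by
  rw [← mul_assoc, ← mul_assoc, h.eq]

/-- A central element inverted by conjugation squares to one. -/
theorem RootExt.sq_eq_one_of_inv (h : RootExt p) {c g : E} (hc : c ∈ p.ker) (hi : g * c * g⁻¹ = c⁻¹) :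
    c * c = 1 := by
  rw [← (h.comm hc g).eq, mul_inv_cancel_right] at hi
  rw [mul_eq_one_iff_eq_inv]
  exact hi

theorem RootExt.pow_sq (h : RootExt p) {X Y : E} (hX : X * X = 1) (hY : Y * Y = 1) {n : ℕ}
    (hn : (X * Y) ^ n ∈ p.ker) : (X * Y) ^ n * (X * Y) ^ n = 1 := by
  refine h.sq_eq_one_of_inv (g := X) hn ?_
  rw [← conj_pow, ← inv_pow]
  congr 1
  rw [mul_inv_rev, inv_of_sq hX, inv_of_sq hY, mul_assoc, mul_assoc, ← mul_assoc X X, hX, one_mul]

theorem RootExt.mul_sq (h : RootExt p) {X c : E} (hX : X * X = 1) (hc : c ∈ p.ker) (hc2 : c * c = 1) :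
    X * c * (X * c) = 1 := by
  rw [← pow_two, ((h.comm hc X).symm).mul_pow, pow_two, pow_two, hX, hc2, one_mul]

theorem map_mul_ker {X c : E} (hc : c ∈ p.ker) : p (X * c) = p X := by
  rw [map_mul, MonoidHom.mem_ker.1 hc, mul_one]

theorem pow_odd_of_sq {c : E} (hc : c * c = 1) (k : ℕ) : c ^ (2 * k + 1) = c := by
  rw [pow_succ, pow_mul, pow_two, hc, one_pow, one_mul]

theorem pow_even_of_sq {c : E} (hc : c * c = 1) (k : ℕ) : c ^ (2 * k) = 1 := by
  rw [pow_mul, pow_two, hc, one_pow]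

/-- An odd braid relation after a change of sign. -/
theorem RootExt.exists_braid (h : RootExt p) {X Y : E} (hX : X * X = 1) (hY : Y * Y = 1) {k : ℕ}
    (hn : p (X * Y) ^ (2 * k + 1) = 1) :
    ∃ c ∈ p.ker, c * c = 1 ∧ (X * (Y * c)) ^ (2 * k + 1) = 1 := by
  have hk : (X * Y) ^ (2 * k + 1) ∈ p.ker := by rwa [MonoidHom.mem_ker, map_pow]
  have hs := h.pow_sq hX hY hk
  refine ⟨_, hk, hs, ?_⟩
  rw [← mul_assoc, ((h.comm hk (X * Y)).symm).mul_pow, pow_odd_of_sq hs, hs]

theorem RootExt.commute_mul_self (h : RootExt p) {X W : E} (hX : X * X = 1)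
    (hW : p X * p W = p W * p X) : Commute X (W * W) := by
  set c := W⁻¹ * (X * W * X⁻¹) with hc
  have hck : c ∈ p.ker := by
    rw [MonoidHom.mem_ker, hc]
    simp only [map_mul, map_inv, hW]
    group
  have e : X * W * X⁻¹ = W * c := by rw [hc, mul_inv_cancel_left]
  have ec : W = W * (c * c) := by
    calc W = X * (X * W * X⁻¹) * X⁻¹ := by
            rw [inv_of_sq hX]; simp only [mul_assoc, cancel_sq hX, hX, mul_one]
      _ = X * W * X⁻¹ * c := by
            rw [e, ← mul_assoc X W, mul_assoc (X * W), (h.comm hck X⁻¹).eq, ← mul_assoc, e]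
      _ = _ := by rw [e, mul_assoc]
  have hcc : c * c = 1 := mul_eq_left.1 ec.symm
  have e2 : X * (W * W) * X⁻¹ = W * W := by
    calc X * (W * W) * X⁻¹ = X * W * X⁻¹ * (X * W * X⁻¹) := by group
      _ = W * (c * W) * c := by rw [e]; group
      _ = W * W * (c * c) := by rw [(h.comm hck W).eq]; group
      _ = _ := by rw [hcc, mul_one]
  exact mul_inv_eq_iff_eq_mul.1 e2

/-- Lifts commute where a letter is a product of such squares. -/
theorem RootExt.comm_of_wit (h : RootExt p) (X : ℕ → E) (hm : ∀ a < 6, p (X a) = letterEl a)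
    (hs : ∀ a < 6, X a * X a = 1) {t : ℕ × ℕ × List (List ℕ)} (ht : t ∈ squareWits) :
    Commute (X t.1) (X t.2.1) := by
  have hok := List.all_eq_true.1 wits_ok t ht
  simp only [witOK, Bool.and_eq_true, Nat.blt_eq, List.all_eq_true] at hok
  obtain ⟨⟨⟨hx, hy⟩, hws⟩, hprod⟩ := hok
  obtain ⟨x, y, ws⟩ := t
  simp only at hx hy hws hprod ⊢
  have hev : ∀ v : List ℕ, (∀ a ∈ v, a < 6) → p (ev X v) = ev letterEl v := fun v hv => by
    rw [map_ev, Setup.ev_congr v fun a ha => hm a (hv a ha)]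
  have hlt : ∀ w ∈ ws, ∀ a ∈ w, a < 6 := fun w hw a ha => by
    have := hws w hw
    simp only [sameWord, Bool.and_eq_true, List.all_eq_true, Nat.blt_eq] at this
    exact this.1.2 a (List.mem_append_left _ ha)
  have hP : ∀ l : List (List ℕ), (∀ w ∈ l, w ∈ ws) → Commute (X x) (ev X (l.flatMap fun w => w ++ w)) := by
    intro l
    induction l with
    | nil => intro _; exact Commute.one_right _
    | cons w l ih =>
      intro hl
      have hw := hl w List.mem_cons_self
      rw [List.flatMap_cons, ev_append, ev_append]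
      refine (ih fun v hv => hl v (List.mem_cons_of_mem _ hv)).mul_right (h.commute_mul_self (hs x hx) ?_)
      have e := sameWord_spec (hws w hw)
      rw [ev_append, ev_single] at e
      rw [hm x hx, hev w (hlt w hw)]
      exact e
  have hflat : ∀ a ∈ ws.flatMap (fun w => w ++ w), a < 6 := fun a ha => by
    obtain ⟨w, hw, ha⟩ := List.mem_flatMap.1 ha
    exact hlt w hw a ((List.mem_append.1 ha).elim id id)
  set P := ev X (ws.flatMap fun w => w ++ w) with hPdef
  have hker : P⁻¹ * X y ∈ p.ker := by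
    rw [MonoidHom.mem_ker, map_mul, map_inv, hev _ hflat, hm y hy, sameWord_spec hprod, ev_single,
      inv_mul_cancel]
  have := (hP ws fun w hw => hw).mul_right (h.comm hker (X x)).symm
  rwa [← hPdef, mul_inv_cancel_left] at this

/-- Involutory lifts with every relator but `(abcf)^5`. -/
structure Lifts (p : E →* GSix) (X : ℕ → E) : Prop where
  map : ∀ a < 6, p (X a) = letterEl a
  sq : ∀ a < 6, X a * X a = 1
  comm : ∀ t ∈ squareWits, Commute (X t.1) (X t.2.1)
  ab : (X 0 * X 1) ^ 5 = 1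
  bc : (X 1 * X 2) ^ 3 = 1
  bf : (X 1 * X 5) ^ 3 = 1
  cd : (X 2 * X 3) ^ 8 = 1
  de : (X 3 * X 4) ^ 3 = 1
  rt : X 0 = (X 2 * X 3) ^ 4
  rr : ((X 1 * X 2 * X 3 * X 2 * X 3) ^ 5 * X 4) ^ 3 = 1
  rp : (X 0 * X 1 * X 2 * X 5) ^ 5 * (X 0 * X 1 * X 2 * X 5) ^ 5 = 1

/-- A sequence of six elements. -/
def ofSix (A B C D E' F : E) : ℕ → E
  | 0 => A
  | 1 => B
  | 2 => C
  | 3 => D
  | 4 => E'
  | _ => F

/-- The pairs of the witnesses. -/
theorem wit_pairs : ((2, 0) : ℕ × ℕ) ∈ squareWits.map (fun t => (t.1, t.2.1)) ∧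
    squareWits.map (fun t => (t.1, t.2.1)) =
      [(3, 0), (3, 1), (3, 5), (4, 0), (4, 1), (4, 2), (4, 5), (2, 0), (5, 0), (2, 5)] := by
  decide +kernel

theorem RootExt.commutes (h : RootExt p) {A B C D E' F : E} (hA : A * A = 1) (hB : B * B = 1)
    (hC : C * C = 1) (hD : D * D = 1) (hE : E' * E' = 1) (hF : F * F = 1) (pA : p A = letterEl 0)
    (pB : p B = letterEl 1) (pC : p C = letterEl 2) (pD : p D = letterEl 3) (pE : p E' = letterEl 4)
    (pF : p F = letterEl 5) :
    Commute D B ∧ Commute A C ∧ Commute A F ∧ Commute C F ∧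
      ∀ t ∈ squareWits, Commute (ofSix A B C D E' F t.1) (ofSix A B C D E' F t.2.1) := by
  have hX := fun t (ht : t ∈ squareWits) => h.comm_of_wit (ofSix A B C D E' F)
    (fun a ha => by interval_cases a <;> assumption) (fun a ha => by interval_cases a <;> assumption) ht
  have key : ∀ x y : ℕ, (x, y) ∈ squareWits.map (fun t => (t.1, t.2.1)) →
      Commute (ofSix A B C D E' F x) (ofSix A B C D E' F y) := by
    intro x y hxy
    obtain ⟨t, ht, e⟩ := List.mem_map.1 hxy
    obtain ⟨rfl, rfl⟩ := Prod.ext_iff.1 e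
    exact hX t ht
  rw [wit_pairs.2] at key
  exact ⟨key 3 1 (by decide), (key 2 0 (by decide)).symm, (key 5 0 (by decide)).symm, key 2 5 (by decide), hX⟩

/-- `u = bcdcd` is inverted by `bd`. -/
theorem conj_u {B C D : E} (hB : B * B = 1) (hC : C * C = 1) (hD : D * D = 1) (hDB : Commute D B) :
    B * D * (B * C * D * C * D) * (B * D)⁻¹ = (B * C * D * C * D)⁻¹ := by
  simp only [mul_inv_rev, inv_of_sq hB, inv_of_sq hC, inv_of_sq hD, mul_assoc, cancel_sq hD,
    commute_mid hDB.symm, cancel_sq hB]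

/-- `w = abcf` is inverted by `aba`. -/
theorem conj_w {A B C F : E} (hA : A * A = 1) (hB : B * B = 1) (hC : C * C = 1) (hF : F * F = 1)
    (hAC : Commute A C) (hAF : Commute A F) (hCF : Commute C F) :
    A * B * A * (A * B * C * F) * (A * B * A)⁻¹ = (A * B * C * F)⁻¹ := by
  simp only [mul_inv_rev, inv_of_sq hA, inv_of_sq hB, inv_of_sq hC, inv_of_sq hF, mul_assoc, cancel_sq hA,
    cancel_sq hB, commute_mid hAC.symm, commute_mid hAF.symm, commute_mid hCF]

theorem g_ab : (letterEl 0 * letterEl 1) ^ 5 = 1 := by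
  simpa [ev] using pow_eq_one_of_evP (w := [1, 0]) (n := 5) (by decide +kernel)

theorem g_bc : (letterEl 1 * letterEl 2) ^ 3 = 1 := by
  simpa [ev] using pow_eq_one_of_evP (w := [2, 1]) (n := 3) (by decide +kernel)

theorem g_bf : (letterEl 1 * letterEl 5) ^ 3 = 1 := by
  simpa [ev] using pow_eq_one_of_evP (w := [5, 1]) (n := 3) (by decide +kernel)

theorem g_de : (letterEl 3 * letterEl 4) ^ 3 = 1 := by
  simpa [ev] using pow_eq_one_of_evP (w := [4, 3]) (n := 3) (by decide +kernel)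

theorem g_t : letterEl 0 = (letterEl 2 * letterEl 3) ^ 4 := by
  have h := ev_eq_of_evP (v := [0]) (w := (List.replicate 4 [3, 2]).flatten) (by decide +kernel)
  rw [ev_replicate] at h
  simpa [ev] using h

theorem g_u : (letterEl 1 * letterEl 2 * letterEl 3 * letterEl 2 * letterEl 3) ^ 15 = 1 := by
  simpa [ev, mul_assoc] using pow_eq_one_of_evP (w := [3, 2, 3, 2, 1]) (n := 15) (by decide +kernel)

theorem g_r : ((letterEl 1 * letterEl 2 * letterEl 3 * letterEl 2 * letterEl 3) ^ 5 * letterEl 4) ^ 3 = 1 := by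
  have h := pow_eq_one_of_evP (w := [4] ++ (List.replicate 5 [3, 2, 3, 2, 1]).flatten) (n := 3)
    (by decide +kernel)
  rw [ev_append, ev_replicate] at h
  simpa [ev, mul_assoc] using h

theorem g_p : (letterEl 0 * letterEl 1 * letterEl 2 * letterEl 5) ^ 5 = 1 := by
  simpa [ev, mul_assoc] using pow_eq_one_of_evP (w := [5, 2, 1, 0]) (n := 5) (by decide +kernel)

theorem exists_lifts (h : RootExt p) : ∃ X : ℕ → E, Lifts p X := by
  obtain ⟨A, pA, sA⟩ := h.lift_involution (letter_sq (a := 0) (by norm_num))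
  obtain ⟨B, pB, sB⟩ := h.lift_involution (letter_sq (a := 1) (by norm_num))
  obtain ⟨C, pC, sC⟩ := h.lift_involution (letter_sq (a := 2) (by norm_num))
  obtain ⟨D, pD, sD⟩ := h.lift_involution (letter_sq (a := 3) (by norm_num))
  obtain ⟨E', pE, sE⟩ := h.lift_involution (letter_sq (a := 4) (by norm_num))
  obtain ⟨F, pF, sF⟩ := h.lift_involution (letter_sq (a := 5) (by norm_num))
  -- the odd braids
  obtain ⟨c, hc, hc2, bc⟩ := h.exists_braid (k := 1) sB sC (by rw [map_mul, pB, pC]; exact g_bc)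
  replace pC : p (C * c) = letterEl 2 := (map_mul_ker hc).trans pC
  replace sC : C * c * (C * c) = 1 := h.mul_sq sC hc hc2
  revert pC sC bc; generalize C * c = C; intro bc pC sC
  obtain ⟨c, hc, hc2, bf⟩ := h.exists_braid (k := 1) sB sF (by rw [map_mul, pB, pF]; exact g_bf)
  replace pF : p (F * c) = letterEl 5 := (map_mul_ker hc).trans pF
  replace sF : F * c * (F * c) = 1 := h.mul_sq sF hc hc2
  revert pF sF bf; generalize F * c = F; intro bf pF sF
  obtain ⟨c, hc, hc2, de⟩ := h.exists_braid (k := 1) sD sE (by rw [map_mul, pD, pE]; exact g_de)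
  replace pE : p (E' * c) = letterEl 4 := (map_mul_ker hc).trans pE
  replace sE : E' * c * (E' * c) = 1 := h.mul_sq sE hc hc2
  revert pE sE de; generalize E' * c = E'; intro de pE sE
  obtain ⟨c, hc, hc2, ab⟩ : ∃ c ∈ p.ker, c * c = 1 ∧ (A * c * B) ^ (2 * 2 + 1) = 1 := by
    obtain ⟨c, hc, hc2, e⟩ := h.exists_braid (k := 2) sA sB (by rw [map_mul, pA, pB]; exact g_ab)
    exact ⟨c, hc, hc2, by rwa [mul_assoc, (h.comm hc B).eq]⟩
  replace pA : p (A * c) = letterEl 0 := (map_mul_ker hc).trans pA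
  replace sA : A * c * (A * c) = 1 := h.mul_sq sA hc hc2
  revert pA sA ab; generalize A * c = A; intro ab pA sA
  -- the relator `a = (cd)^4`
  obtain ⟨-, hAC, -⟩ := h.commutes sA sB sC sD sE sF pA pB pC pD pE pF
  set T := (C * D) ^ 4 with hT
  have hcT : A * T⁻¹ ∈ p.ker := by
    rw [MonoidHom.mem_ker, map_mul, map_inv, hT, map_pow, map_mul, pA, pC, pD, ← g_t, mul_inv_cancel]
  have eA : A = A * T⁻¹ * T := (inv_mul_cancel_right A T).symm
  have hCT : C * T * C⁻¹ = T⁻¹ := by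
    rw [hT, ← conj_pow, ← inv_pow, mul_inv_rev, inv_of_sq sC, inv_of_sq sD]
    simp only [cancel_sq sC]
  have hT2 : T * T = 1 := by
    have e : A * T⁻¹ * T = A * T⁻¹ * (C * T * C⁻¹) := by
      calc A * T⁻¹ * T = A := eA.symm
        _ = C * A * C⁻¹ := by rw [← hAC.eq, mul_inv_cancel_right]
        _ = C * (A * T⁻¹ * T) * C⁻¹ := by rw [← eA]
        _ = A * T⁻¹ * (C * T * C⁻¹) := by
            rw [← mul_assoc C (A * T⁻¹), (h.comm hcT C).symm.eq, mul_assoc (A * T⁻¹) C, mul_assoc (A * T⁻¹)]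
    rw [hCT] at e
    exact mul_eq_one_iff_eq_inv.2 (mul_left_cancel e)
  have cd : (C * D) ^ 8 = 1 := by rw [show (8 : ℕ) = 4 + 4 from rfl, pow_add]; exact hT2
  have hc2 : A * T⁻¹ * (A * T⁻¹) = 1 := by
    have e : A * A = A * T⁻¹ * (A * T⁻¹) * (T * T) := by
      conv_lhs => rw [eA]
      rw [← pow_two, (h.comm hcT T).mul_pow, pow_two, pow_two]
    rw [sA, hT2, mul_one] at e
    exact e.symm
  obtain ⟨c, hc, hc2, hA'⟩ : ∃ c ∈ p.ker, c * c = 1 ∧ A * c = T :=
    ⟨A * T⁻¹, hcT, hc2, by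
      rw [← (h.comm hcT A).eq]
      nth_rewrite 2 [eA]
      rw [← mul_assoc, hc2, one_mul]⟩
  have pw : ∀ (X Y : E) (n : ℕ), (X * Y) ^ n = 1 → (X * c * (Y * c)) ^ n = 1 := by
    intro X Y n e
    rw [show X * c * (Y * c) = X * Y * (c * c) by
      rw [mul_assoc X c, ← mul_assoc c Y, (h.comm hc Y).eq, mul_assoc Y, ← mul_assoc], hc2, mul_one, e]
  have cd' : ∀ n, (C * c * D) ^ (2 * n) = (C * D) ^ (2 * n) := by
    intro n
    rw [show C * c * D = C * D * c by rw [mul_assoc C c, (h.comm hc D).eq, ← mul_assoc],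
      ((h.comm hc (C * D)).symm).mul_pow, pow_even_of_sq hc2, mul_one]
  have rt : A * c = (C * c * D) ^ 4 := by rw [hA', cd' 2]
  replace cd : (C * c * D) ^ 8 = 1 := (cd' 4).trans cd
  replace ab : (A * c * (B * c)) ^ 5 = 1 := pw _ _ _ ab
  replace bc : (B * c * (C * c)) ^ 3 = 1 := pw _ _ _ bc
  replace bf : (B * c * (F * c)) ^ 3 = 1 := pw _ _ _ bf
  replace pA : p (A * c) = letterEl 0 := (map_mul_ker hc).trans pA
  replace pB : p (B * c) = letterEl 1 := (map_mul_ker hc).trans pB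
  replace pC : p (C * c) = letterEl 2 := (map_mul_ker hc).trans pC
  replace pF : p (F * c) = letterEl 5 := (map_mul_ker hc).trans pF
  replace sA := h.mul_sq sA hc hc2
  replace sB := h.mul_sq sB hc hc2
  replace sC := h.mul_sq sC hc hc2
  replace sF := h.mul_sq sF hc hc2
  revert rt cd ab bc bf pA pB pC pF sA sB sC sF
  generalize A * c = A; generalize B * c = B; generalize C * c = C; generalize F * c = F
  intro rt cd ab bc bf pA pB pC pF sA sB sC sF
  -- the long relator
  obtain ⟨hDB, hAC, hAF, hCF, -⟩ := h.commutes sA sB sC sD sE sF pA pB pC pD pE pF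
  set U := B * C * D * C * D with hU
  have pU : p U = letterEl 1 * letterEl 2 * letterEl 3 * letterEl 2 * letterEl 3 := by
    rw [hU]; simp only [map_mul, pB, pC, pD]
  set V := U ^ 5 with hV
  have pV : p V = (letterEl 1 * letterEl 2 * letterEl 3 * letterEl 2 * letterEl 3) ^ 5 := by
    rw [hV, map_pow, pU]
  have hV3 : V ^ 3 = U ^ 15 := by rw [hV, ← pow_mul]
  have hk : V ^ 3 ∈ p.ker := by rw [MonoidHom.mem_ker, hV3, map_pow, pU]; exact g_u
  have hk2 : V ^ 3 * V ^ 3 = 1 := by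
    refine h.sq_eq_one_of_inv (g := B * D) hk ?_
    rw [hV3, ← conj_pow, conj_u sB sC sD hDB, inv_pow]
  set E₁ := V * E' * V⁻¹ with hE₁
  set E₂ := V * E₁ * V⁻¹ with hE₂
  have s1 : E₁ * E₁ = 1 := by
    rw [hE₁, show V * E' * V⁻¹ * (V * E' * V⁻¹) = V * (E' * E') * V⁻¹ by group, sE, mul_one,
      mul_inv_cancel]
  have s2 : E₂ * E₂ = 1 := by
    rw [hE₂, show V * E₁ * V⁻¹ * (V * E₁ * V⁻¹) = V * (E₁ * E₁) * V⁻¹ by group, s1, mul_one,
      mul_inv_cancel]
  have h12 : Commute E₁ E₂ := (h.twist E' V pE pV).map (MulAut.conj V).toMonoidHom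
  have hr : (V * E') ^ 3 = E₁ * E₂ * E' * V ^ 3 := by
    have e1 : E₁ * E₂ * (V ^ 3 * E') = (V * E') ^ 3 := by
      rw [hE₂, hE₁]; simp only [pow_succ, pow_zero, one_mul]; group
    rw [← e1, (h.comm hk E').eq, ← mul_assoc]
  have hrk : (V * E') ^ 3 ∈ p.ker := by
    rw [MonoidHom.mem_ker, map_pow, map_mul, pV, pE]; exact g_r
  have hr2 : (V * E') ^ 3 * (V * E') ^ 3 = 1 := by
    set c₀ := E₁ * E₂ * E' with hc₀
    have hc₀k : c₀ ∈ p.ker := by
      have : c₀ = (V * E') ^ 3 * (V ^ 3)⁻¹ := by rw [hr, mul_inv_cancel_right]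
      rw [this]; exact mul_mem hrk (inv_mem hk)
    have e12 : E₁ * E₂ = c₀ * E' := by rw [hc₀, mul_assoc (E₁ * E₂), sE, mul_one]
    have hcc : c₀ * c₀ = 1 := by
      have e : (E₁ * E₂) ^ 2 = (c₀ * E') ^ 2 := by rw [e12]
      rw [h12.mul_pow, (h.comm hc₀k E').mul_pow, pow_two, pow_two, pow_two, pow_two, s1, s2, sE, mul_one,
        mul_one] at e
      exact e.symm
    rw [hr, ← pow_two, ((h.comm hk c₀).symm).mul_pow, pow_two, pow_two, hcc, hk2, one_mul]
  obtain ⟨c, hc, hc2, hcr⟩ : ∃ c ∈ p.ker, c * c = 1 ∧ c = (V * E') ^ 3 := ⟨_, hrk, hr2, rfl⟩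
  have eCD : C * (D * c) = C * D * c := (mul_assoc _ _ _).symm
  have cdc : ∀ n, (C * (D * c)) ^ (2 * n) = (C * D) ^ (2 * n) := by
    intro n
    rw [eCD, ((h.comm hc (C * D)).symm).mul_pow, pow_even_of_sq hc2, mul_one]
  have eU : B * C * (D * c) * C * (D * c) = U := by
    calc B * C * (D * c) * C * (D * c) = B * C * D * (c * C) * D * c := by group
      _ = B * C * D * C * (c * D) * c := by rw [(h.comm hc C).eq]; group
      _ = U * (c * c) := by rw [(h.comm hc D).eq, hU]; group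
      _ = U := by rw [hc2, mul_one]
  refine ⟨ofSix A B C (D * c) (E' * c) F, ?_⟩
  have sD' := h.mul_sq sD hc hc2
  have sE' := h.mul_sq sE hc hc2
  have pD' : p (D * c) = letterEl 3 := (map_mul_ker hc).trans pD
  have pE' : p (E' * c) = letterEl 4 := (map_mul_ker hc).trans pE
  obtain ⟨-, -, -, -, hcomm⟩ := h.commutes sA sB sC sD' sE' sF pA pB pC pD' pE' pF
  refine ⟨fun a ha => by interval_cases a <;> assumption, fun a ha => by interval_cases a <;> assumption,
    hcomm, ab, bc, bf, ?_, ?_, ?_, ?_, ?_⟩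
  · show (C * (D * c)) ^ (2 * 4) = 1
    rw [cdc 4]; exact cd
  · show (D * c * (E' * c)) ^ 3 = 1
    rw [show D * c * (E' * c) = D * E' * (c * c) by
      rw [mul_assoc D c, ← mul_assoc c E', (h.comm hc E').eq, mul_assoc E', ← mul_assoc], hc2, mul_one]
    exact de
  · show A = (C * (D * c)) ^ (2 * 2)
    rw [cdc 2]; exact rt
  · show ((B * C * (D * c) * C * (D * c)) ^ 5 * (E' * c)) ^ 3 = 1
    rw [eU, ← hV, ← mul_assoc, ((h.comm hc (V * E')).symm).mul_pow, ← hcr,
      show (3 : ℕ) = 2 * 1 + 1 from rfl, pow_odd_of_sq hc2, hc2]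
  · show (A * B * C * F) ^ 5 * (A * B * C * F) ^ 5 = 1
    have hw : (A * B * C * F) ^ 5 ∈ p.ker := by
      rw [MonoidHom.mem_ker, map_pow, map_mul, map_mul, map_mul, pA, pB, pC, pF]; exact g_p
    refine h.sq_eq_one_of_inv (g := A * B * A) hw ?_
    rw [← conj_pow, conj_w sA sB sC sF hAC hAF hCF, inv_pow]

end Cfsg.Agent.MultGTwoFour
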