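import Cfsg.Agent.Lib.MultGTwoFour.Lifts
import Cfsg.Agent.Lib.MultGTwoFour.Five

/-!
# The relator `(abcf)^5` follows from the others

* `Lifts.rp_eq_one` : sum of relator loops on the 416 points in which every edge occurs an even number of times
* `exists_section` : a central extension with roots and the commutation hypothesis splits
-/

set_option autoImplicit false
set_option maxRecDepth 100000
set_option linter.style.haveILetI false

namespace Cfsg.Agent.MultGTwoFour

open Cfsg.Agent.CosetEnum Cfsg.Agent.SuzGTwo Cfsg.Agent.JTwoInGTwo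
open Cfsg.Agent.CosetEnum.Data (ev ev_append)

variable {E : Type*} [Group E] {p : E →* GSix} {X : ℕ → E}

theorem pow_swap {x y : E} {n : ℕ} (h : (x * y) ^ n = 1) : (y * x) ^ n = 1 := by
  rw [show y * x = x⁻¹ * (x * y) * x⁻¹⁻¹ by group, conj_pow, h, mul_one, mul_inv_cancel]

namespace Lifts

variable (L : Lifts p X)
include L

theorem pair_sq {x y : ℕ} (hx : x < 6) (hy : y < 6)
    (h : (x, y) ∈ squareWits.map fun t => (t.1, t.2.1)) : (X x * X y) ^ 2 = 1 ∧ (X y * X x) ^ 2 = 1 := by
  obtain ⟨t, ht, e⟩ := List.mem_map.1 h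
  obtain ⟨rfl, rfl⟩ := Prod.ext_iff.1 e
  have hc := L.comm t ht
  constructor
  · rw [hc.mul_pow, pow_two, pow_two, L.sq _ hx, L.sq _ hy, one_mul]
  · rw [hc.symm.mul_pow, pow_two, pow_two, L.sq _ hx, L.sq _ hy, one_mul]

theorem pair (x y : Six) : (X x.num * X y.num) ^ Cfsg.Spor.coxLabel sixSetup.edges x y = 1 := by
  have hm := wit_pairs.2
  have c2 : ∀ a b : ℕ, a < 6 → b < 6 → (a, b) ∈ squareWits.map (fun t => (t.1, t.2.1)) →
      (X a * X b) ^ 2 = 1 ∧ (X b * X a) ^ 2 = 1 := fun a b ha hb h => L.pair_sq ha hb h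
  rw [hm] at c2
  have d : ∀ a, a < 6 → (X a * X a) ^ 1 = 1 := fun a ha => by rw [pow_one, L.sq a ha]
  cases x <;> cases y <;> first
    | exact d _ (by decide)
    | exact L.ab | exact pow_swap L.ab
    | exact L.bc | exact pow_swap L.bc
    | exact L.bf | exact pow_swap L.bf
    | exact L.cd | exact pow_swap L.cd
    | exact L.de | exact pow_swap L.de
    | exact (c2 _ _ (by decide) (by decide) (by decide)).1
    | exact (c2 _ _ (by decide) (by decide) (by decide)).2

/-- The homomorphism from the group on five letters. -/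
theorem exists_five : ∃ θ : fiveSetup.G →* E, (∀ x : Five, θ (PresentedGroup.of x) = X x.num) ∧
    p.comp θ = fiveHom := by
  have hrel : ∀ r ∈ fiveSetup.rels, FreeGroup.lift (fun x : Five => X x.num) r = 1 := by
    rintro r (⟨x, -, y, -, rfl⟩ | hr)
    · rw [map_pow, map_mul, FreeGroup.lift_apply_of, FreeGroup.lift_apply_of,
        show Cfsg.Spor.coxLabel fiveSetup.edges x y = Cfsg.Spor.coxLabel sixSetup.edges x.toSix y.toSix by
          cases x <;> cases y <;> decide +kernel,
        show x.num = x.toSix.num by cases x <;> rfl, show y.num = y.toSix.num by cases y <;> rfl]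
      exact L.pair _ _
    · simp only [fiveSetup, Set.mem_ofPred_eq, List.mem_cons, List.not_mem_nil, or_false] at hr
      rcases hr with rfl | rfl
      · simp only [map_mul, map_inv, map_pow, FreeGroup.lift_apply_of]
        exact mul_inv_eq_one.2 L.rt
      · simp only [map_mul, map_pow, FreeGroup.lift_apply_of]
        exact L.rr
  refine ⟨PresentedGroup.toGroup hrel, fun x => PresentedGroup.toGroup.of _, PresentedGroup.ext fun x => ?_⟩
  rw [MonoidHom.comp_apply, PresentedGroup.toGroup.of, fiveHom_of, L.map x.num (by cases x <;> decide)]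

end Lifts

/-- A letter on the points. -/
def stepN (a i : ℕ) : ℕ := StabCert.look 9 (letterTab.getD a 0) i

/-- An edge, the same in both directions. -/
def edgeKey (a i : ℕ) : ℕ × ℕ := (a, min i (stepN a i))

/-- The edges of a path. -/
def loopKeys : List ℕ → ℕ → List (ℕ × ℕ)
  | [], _ => []
  | a :: v, i => edgeKey a i :: loopKeys v (stepN a i)

/-- Insert or remove. -/
def toggle (acc : List (ℕ × ℕ)) (e : ℕ × ℕ) : List (ℕ × ℕ) := if e ∈ acc then acc.erase e else e :: acc

/-- The check of the loops. -/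
def loopsEven : Bool :=
  (parityLoops.all fun l => Nat.blt l.2 416 &&
    ((loopRels.getD l.1 []).all fun a => Nat.blt a 6) && go (loopRels.getD l.1 []) l.2 == l.2) &&
  ((parityLoops.flatMap fun l => loopKeys (loopRels.getD l.1 []) l.2).foldl toggle [] == []) &&
  (parityLoops.countP fun l => l.1 == loopTarget) % 2 == 1 && parityLoops.all fun l => Nat.blt l.1 loopRels.length

theorem loops_even : loopsEven = true := by decide +kernel

theorem prod_toggle {M : Type*} [CommGroup M] (φ : ℕ × ℕ → M) (hφ : ∀ e, φ e * φ e = 1) :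
    ∀ (l acc : List (ℕ × ℕ)), ((l.foldl toggle acc).map φ).prod = (acc.map φ).prod * (l.map φ).prod
  | [], acc => by simp
  | e :: l, acc => by
    rw [List.foldl_cons, prod_toggle φ hφ l, List.map_cons, List.prod_cons, ← mul_assoc]
    congr 1
    rw [toggle]
    split
    · next he =>
      rw [((List.perm_cons_erase he).map φ).prod_eq, List.map_cons, List.prod_cons, mul_comm (φ e),
        mul_assoc, hφ, mul_one]
    · rw [List.map_cons, List.prod_cons, mul_comm]

theorem wordOf_eq : ∀ w : List ℕ, wordOf w = ev letterEl w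
  | [] => rfl
  | a :: v => by
    show wordOf v * letterEl a = _
    rw [wordOf_eq v]
    rfl

theorem letters_top : Subgroup.closure (letterEl '' {a | a < 6}) = (⊤ : Subgroup GSix) := by
  rw [eq_top_iff, ← PresentedGroup.closure_range_of]
  refine Subgroup.closure_mono ?_
  rintro _ ⟨x, rfl⟩
  exact ⟨x.num, by cases x <;> decide, by cases x <;> rfl⟩

namespace Lifts

/-- The value of the relator in question. -/
def target (X : ℕ → E) : E := (X 0 * X 1 * X 2 * X 5) ^ 5

variable (L : Lifts p X)
include L

theorem p_ev {w : List ℕ} (hw : ∀ a ∈ w, a < 6) : p (ev X w) = ev letterEl w := by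
  rw [map_ev, Setup.ev_congr w fun a ha => L.map a (hw a ha)]

theorem target_ker : target X ∈ p.ker := by
  rw [MonoidHom.mem_ker, target, map_pow, map_mul, map_mul, map_mul, L.map 0 (by decide), L.map 1 (by decide),
    L.map 2 (by decide), L.map 5 (by decide)]
  exact g_p

theorem ker_le_two (h : RootExt p) {g : E} (hg : g ∈ Subgroup.closure (X '' {a | a < 6})) (hp : p g = 1) :
    g = 1 ∨ g = target X := by
  set N := Subgroup.zpowers (target X) with hN
  have : N.Normal := ⟨fun n hn x => by
    have hc := h.comm ((Subgroup.zpowers_le.2 L.target_ker) hn) x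
    rwa [← hc.eq, mul_inv_cancel_right]⟩
  have hrel : ∀ r ∈ sixSetup.rels, FreeGroup.lift (fun x : Six => QuotientGroup.mk' N (X x.num)) r = 1 := by
    rintro r (⟨x, -, y, -, rfl⟩ | hr)
    · rw [map_pow, map_mul, FreeGroup.lift_apply_of, FreeGroup.lift_apply_of, ← map_mul, ← map_pow, L.pair x y,
        map_one]
    · simp only [sixSetup, Set.mem_ofPred_eq, List.mem_cons, List.not_mem_nil, or_false] at hr
      rcases hr with rfl | rfl | rfl
      · simp only [map_mul, map_inv, map_pow, FreeGroup.lift_apply_of]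
        simp only [← map_mul, ← map_inv, ← map_pow]
        show QuotientGroup.mk' N (X 0 * ((X 2 * X 3) ^ 4)⁻¹) = 1
        rw [mul_inv_eq_one.2 L.rt, map_one]
      · simp only [map_mul, map_pow, FreeGroup.lift_apply_of]
        simp only [← map_mul, ← map_pow]
        exact (QuotientGroup.eq_one_iff _).2 (Subgroup.mem_zpowers (target X))
      · simp only [map_mul, map_pow, FreeGroup.lift_apply_of]
        simp only [← map_mul, ← map_pow]
        show QuotientGroup.mk' N (((X 1 * X 2 * X 3 * X 2 * X 3) ^ 5 * X 4) ^ 3) = 1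
        rw [L.rr, map_one]
  let ψ : GSix →* E ⧸ N := PresentedGroup.toGroup hrel
  have hψ : ∀ a < 6, ψ (letterEl a) = QuotientGroup.mk' N (X a) := by
    have hx : ∀ x : Six, ψ (PresentedGroup.of x) = QuotientGroup.mk' N (X x.num) := fun x =>
      PresentedGroup.toGroup.of _
    intro a ha
    interval_cases a
    · exact hx .a
    · exact hx .b
    · exact hx .c
    · exact hx .d
    · exact hx .e
    · exact hx .f
  have key : ψ (p g) = QuotientGroup.mk' N g := by
    refine MonoidHom.eqOn_closure (f := ψ.comp p) (g := QuotientGroup.mk' N) ?_ hg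
    rintro _ ⟨a, ha, rfl⟩
    rw [MonoidHom.comp_apply, L.map a ha, hψ a ha]
  rw [hp, map_one] at key
  obtain ⟨n, rfl⟩ := Subgroup.mem_zpowers_iff.1 ((QuotientGroup.eq_one_iff g).1 key.symm)
  rcases Int.even_or_odd' n with ⟨k, rfl | rfl⟩
  · left
    rw [zpow_mul, zpow_two, show target X * target X = 1 from L.rp, one_zpow]
  · right
    rw [zpow_add_one, zpow_mul, zpow_two, show target X * target X = 1 from L.rp, one_zpow, one_mul]

theorem loop_rels (j : ℕ) (hj : j < loopRels.length) :
    ev X (loopRels.getD j []) = if j == loopTarget then target X else 1 := by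
  have hp : ∀ x y : Six, ∀ w : List ℕ,
      w = (List.replicate (Cfsg.Spor.coxLabel sixSetup.edges x y) [x.num, y.num]).flatten → ev X w = 1 := by
    intro x y w e
    rw [e, ev_replicate, show ev X [x.num, y.num] = X y.num * X x.num by simp [ev]]
    exact pow_swap (L.pair x y)
  have hW : ev X (List.replicate 5 [0, 1, 2, 5]).flatten = target X := by
    rw [ev_replicate]
    have hi : X 5 * X 2 * X 1 * X 0 = (X 0 * X 1 * X 2 * X 5)⁻¹ := by
      rw [mul_inv_rev, mul_inv_rev, mul_inv_rev, inv_of_sq (L.sq 0 (by decide)), inv_of_sq (L.sq 1 (by decide)),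
        inv_of_sq (L.sq 2 (by decide)), inv_of_sq (L.sq 5 (by decide))]
      group
    simp only [ev, one_mul]
    rw [hi, inv_pow]
    exact inv_eq_of_mul_eq_one_right L.rp
  have hT : ev X ([0] ++ (List.replicate 4 [3, 2]).flatten) = 1 := by
    rw [ev_append, ev_replicate]
    simp only [ev, one_mul]
    rw [← L.rt, L.sq 0 (by decide)]
  have hR : ev X (List.replicate 3 ((List.replicate 5 [1, 2, 3, 2, 3]).flatten ++ [4])).flatten = 1 := by
    rw [ev_replicate, ev_append, ev_replicate]
    simp only [ev, one_mul]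
    set U := X 1 * X 2 * X 3 * X 2 * X 3 with hU
    have hi : X 3 * X 2 * X 3 * X 2 * X 1 = U⁻¹ := by
      rw [hU, mul_inv_rev, mul_inv_rev, mul_inv_rev, mul_inv_rev, inv_of_sq (L.sq 1 (by decide)),
        inv_of_sq (L.sq 2 (by decide)), inv_of_sq (L.sq 3 (by decide))]
      group
    have he : X 4 * U⁻¹ ^ 5 = (U ^ 5 * X 4)⁻¹ := by
      rw [mul_inv_rev (U ^ 5), inv_of_sq (L.sq 4 (by decide)), inv_pow]
    rw [hi, he, inv_pow, hU, L.rr, inv_one]
  have hl : loopRels.length = 18 := by decide
  rw [hl] at hj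
  interval_cases j
  · exact hp .a .b _ (by decide +kernel)
  · exact hp .a .c _ (by decide +kernel)
  · exact hp .a .d _ (by decide +kernel)
  · exact hp .a .e _ (by decide +kernel)
  · exact hp .a .f _ (by decide +kernel)
  · exact hp .b .c _ (by decide +kernel)
  · exact hp .b .d _ (by decide +kernel)
  · exact hp .b .e _ (by decide +kernel)
  · exact hp .b .f _ (by decide +kernel)
  · exact hp .c .d _ (by decide +kernel)
  · exact hp .c .e _ (by decide +kernel)
  · exact hp .c .f _ (by decide +kernel)
  · exact hp .d .e _ (by decide +kernel)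
  · exact hp .d .f _ (by decide +kernel)
  · exact hp .e .f _ (by decide +kernel)
  · exact hT
  · exact hW
  · exact hR

theorem target_eq_one (h : RootExt p) : target X = 1 := by
  classical
  obtain ⟨θ, hθ, hpθ⟩ := L.exists_five
  set Ĝ := Subgroup.closure (X '' {a | a < 6}) with hĜ
  have hX : ∀ a < 6, X a ∈ Ĝ := fun a ha => Subgroup.subset_closure ⟨a, ha, rfl⟩
  have hθĜ : ∀ x, θ x ∈ Ĝ := by
    intro x
    have hx : x ∈ Subgroup.closure (Set.range (PresentedGroup.of (rels := fiveSetup.rels))) := by
      rw [PresentedGroup.closure_range_of]; trivial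
    induction hx using Subgroup.closure_induction with
    | mem g hg =>
      obtain ⟨y, rfl⟩ := hg
      rw [hθ]
      exact hX _ (by cases y <;> decide)
    | one => rw [map_one]; exact one_mem _
    | mul a b _ _ ha hb => rw [map_mul]; exact mul_mem ha hb
    | inv a _ ha => rw [map_inv]; exact inv_mem ha
  have hsurj : ∀ g : GSix, ∃ y ∈ Ĝ, p y = g := by
    intro g
    have hg : g ∈ Ĝ.map p := by
      rw [hĜ, MonoidHom.map_closure, Set.image_image, Set.image_congr (f := fun a => p (X a)) (g := letterEl) (s := {a | a < 6}) fun a ha => L.map a ha,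
        letters_top]
      trivial
    obtain ⟨y, hy, e⟩ := hg
    exact ⟨y, hy, e⟩
  have hW : ∀ i : Pt, ∃ y ∈ Ĝ, p y • mkPt 0 = i := fun i => by
    obtain ⟨g, hg⟩ := MulAction.exists_smul_eq GSix (mkPt 0) i
    obtain ⟨y, hy, e⟩ := hsurj g
    exact ⟨y, hy, by rw [e, hg]⟩
  choose W hWĜ hWi using hW
  let j : GSix → fiveSetup.G := Function.invFun fiveHom
  have hj : ∀ g ∈ base, fiveHom (j g) = g := fun g hg =>
    Function.invFun_eq (by rw [← fiveHom_range] at hg; exact hg)
  let f : E → E := fun g => g * (θ (j (p g)))⁻¹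
  have hfker : ∀ g, p g ∈ base → f g ∈ p.ker := fun g hg => by
    rw [MonoidHom.mem_ker, map_mul, map_inv, ← MonoidHom.comp_apply, hpθ, hj _ hg, mul_inv_cancel]
  have hfmul : ∀ g g', p g ∈ base → p g' ∈ base → f (g * g') = f g * f g' := by
    intro g g' hg hg'
    have e : j (p (g * g')) = j (p g) * j (p g') := fiveHom_injective (by
      rw [hj _ (by rw [map_mul]; exact mul_mem hg hg'), map_mul, map_mul, hj _ hg, hj _ hg'])
    show g * g' * (θ (j (p (g * g'))))⁻¹ = g * (θ (j (p g)))⁻¹ * (g' * (θ (j (p g')))⁻¹)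
    rw [e, map_mul, mul_inv_rev, mul_assoc g (θ (j (p g)))⁻¹,
      ((h.comm (hfker g' hg') (θ (j (p g)))⁻¹).symm).eq]
    simp only [f, mul_assoc]
  have hf1 : ∀ g, p g = 1 → f g = g := fun g hg => by
    have e : j (p g) = 1 := fiveHom_injective (by rw [hj _ (hg ▸ one_mem _), hg, map_one])
    show g * (θ (j (p g)))⁻¹ = g
    rw [e, map_one, inv_one, mul_one]
  -- the value of a path
  let Y : List ℕ → Pt → E := fun w i => (W (ev letterEl w • i))⁻¹ * ev X w * W i
  have hYb : ∀ w, (∀ a ∈ w, a < 6) → ∀ i, p (Y w i) ∈ base := fun w hw i => by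
    rw [← stab_eq, MulAction.mem_stabilizer_iff, map_mul, map_mul, map_inv, L.p_ev hw, mul_smul, mul_smul,
      hWi, inv_smul_eq_iff, hWi]
  have hYĜ : ∀ w, (∀ a ∈ w, a < 6) → ∀ i, Y w i ∈ Ĝ := fun w hw i =>
    mul_mem (mul_mem (inv_mem (hWĜ _)) (Setup.ev_mem _ _ w fun a ha => hX a (hw a ha))) (hWĜ i)
  have hfY : ∀ w, (∀ a ∈ w, a < 6) → ∀ i, f (Y w i) ∈ p.ker ∧ (f (Y w i) = 1 ∨ f (Y w i) = target X) :=
    fun w hw i => ⟨hfker _ (hYb w hw i), L.ker_le_two h (mul_mem (hYĜ w hw i) (inv_mem (hθĜ _)))
      (hfker _ (hYb w hw i))⟩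
  have hsq : ∀ w, (∀ a ∈ w, a < 6) → ∀ i, f (Y w i) * f (Y w i) = 1 := fun w hw i => by
    rcases (hfY w hw i).2 with e | e <;> rw [e]
    · exact one_mul 1
    · exact L.rp
  have hcons : ∀ a v, a < 6 → (∀ b ∈ v, b < 6) → ∀ i,
      f (Y (a :: v) i) = f (Y v (letterEl a • i)) * f (Y [a] i) := by
    intro a v ha hv i
    rw [← hfmul _ _ (hYb v hv _) (hYb [a] (by simpa using ha) i)]
    congr 1
    show (W ((ev letterEl v * letterEl a) • i))⁻¹ * (ev X v * X a) * W i =
      (W (ev letterEl v • letterEl a • i))⁻¹ * ev X v * W (letterEl a • i) *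
        ((W (ev letterEl [a] • i))⁻¹ * ev X [a] * W i)
    rw [mul_smul, ev_single, ev_single]
    group
  have hY0 : ∀ i, f (Y [] i) = 1 := fun i => by
    have e : Y [] i = 1 := by
      show (W ((1 : GSix) • i))⁻¹ * 1 * W i = 1
      rw [one_smul, mul_one, inv_mul_cancel]
    rw [e, hf1 1 (map_one p)]
  -- the two directions of an edge
  have hback : ∀ a < 6, ∀ i : Pt, f (Y [a] (letterEl a • i)) = f (Y [a] i) := by
    intro a ha i
    have hl : ∀ b ∈ [a], b < 6 := by simpa using ha
    have e : Y [a, a] i = 1 := by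
      show (W ((1 * letterEl a * letterEl a) • i))⁻¹ * (1 * X a * X a) * W i = 1
      rw [one_mul, one_mul, letter_sq ha, L.sq a ha, one_smul, mul_one, inv_mul_cancel]
    have e2 := hcons a [a] ha hl i
    rw [e, hf1 1 (map_one p)] at e2
    calc f (Y [a] (letterEl a • i)) = f (Y [a] (letterEl a • i)) * (f (Y [a] i) * f (Y [a] i)) := by
          rw [hsq [a] hl i, mul_one]
      _ = _ := by rw [← mul_assoc, ← e2, one_mul]
  let φ : ℕ × ℕ → Subgroup.center E := fun k =>
    if hk : k.1 < 6 then ⟨f (Y [k.1] (mkPt k.2)), h.cen (hfY [k.1] (by simpa using hk) _).1⟩ else 1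
  have hφ : ∀ k, φ k * φ k = 1 := by
    intro k
    by_cases hk : k.1 < 6
    · simp only [φ, dif_pos hk]
      exact Subtype.ext (hsq [k.1] (by simpa using hk) _)
    · simp only [φ, dif_neg hk, mul_one]
  have hpath : ∀ w, (∀ a ∈ w, a < 6) → ∀ i : Pt,
      (((loopKeys w i.val).map φ).prod : E) = f (Y w i) := by
    intro w
    induction w with
    | nil => intro _ i; rw [hY0]; rfl
    | cons a v ih =>
      intro hw i
      have ha := hw a List.mem_cons_self
      have hv := fun b hb => hw b (List.mem_cons_of_mem a hb)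
      have hval : stepN a i.val = (letterEl a • i).val := (letter_smul ha i).symm
      rw [hcons a v ha hv i, loopKeys, List.map_cons, List.prod_cons, Subgroup.coe_mul, hval, ih hv]
      have hφa : (φ (edgeKey a i.val) : E) = f (Y [a] i) := by
        simp only [φ, edgeKey, dif_pos ha, hval]
        rcases min_choice i.val (letterEl a • i).val with e | e <;> rw [e, mkPt_val]
        exact hback a ha i
      rw [hφa]
      exact h.comm (hfY [a] (by simpa using ha) i).1 _
  have hok := loops_even
  simp only [loopsEven, Bool.and_eq_true, List.all_eq_true, Nat.blt_eq, beq_iff_eq] at hok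
  obtain ⟨⟨⟨hall, hfold⟩, hodd⟩, hlen⟩ := hok
  have hval : ∀ l ∈ parityLoops, (((loopKeys (loopRels.getD l.1 []) l.2).map φ).prod : E) =
      if l.1 == loopTarget then target X else 1 := by
    intro l hl
    obtain ⟨⟨hi, hw⟩, hgo⟩ := hall l hl
    have hr := L.loop_rels l.1 (hlen l hl)
    have hker : ev X (loopRels.getD l.1 []) ∈ p.ker := by
      rw [hr]
      split
      · exact L.target_ker
      · exact one_mem _
    have hfix : ev letterEl (loopRels.getD l.1 []) • mkPt l.2 = mkPt l.2 := by
      refine Fin.ext ?_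
      rw [← wordOf_eq, go_spec _ hw, val_mkPt hi, hgo]
    have := hpath _ hw (mkPt l.2)
    rw [val_mkPt hi] at this
    rw [this]
    show f ((W (ev letterEl _ • mkPt l.2))⁻¹ * ev X _ * W (mkPt l.2)) = _
    rw [hfix, mul_assoc, (h.comm hker (W (mkPt l.2))).eq, inv_mul_cancel_left, hf1 _ hker, hr]
  have hsum : ∀ ls : List (ℕ × ℕ), (∀ l ∈ ls, l ∈ parityLoops) →
      (((ls.flatMap fun l => loopKeys (loopRels.getD l.1 []) l.2).map φ).prod : E) =
        target X ^ ls.countP fun l => l.1 == loopTarget := by
    intro ls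
    induction ls with
    | nil => intro _; rw [List.flatMap_nil, List.countP_nil, pow_zero]; rfl
    | cons l ls ih =>
      intro hls
      rw [List.flatMap_cons, List.map_append, List.prod_append, Subgroup.coe_mul,
        hval l (hls l List.mem_cons_self), ih fun m hm => hls m (List.mem_cons_of_mem l hm), List.countP_cons]
      cases l.1 == loopTarget
      · simp only [Bool.false_eq_true, if_false, one_mul, add_zero]
      · simp only [if_true, pow_succ']
  letI : CommGroup (Subgroup.center E) :=
    { (inferInstance : Group (Subgroup.center E)) with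
      mul_comm := fun a b => Subtype.ext (Subgroup.mem_center_iff.1 b.2 a) }
  have hfin := prod_toggle φ hφ (parityLoops.flatMap fun l => loopKeys (loopRels.getD l.1 []) l.2) []
  rw [hfold, List.map_nil, List.prod_nil, one_mul] at hfin
  have := (congrArg (Subtype.val (p := fun x => x ∈ Subgroup.center E)) hfin).trans (hsum _ fun l hl => hl)
  obtain ⟨k, hk⟩ : ∃ k, (parityLoops.countP fun l => l.1 == loopTarget) = 2 * k + 1 := ⟨_, (Nat.div_add_mod _ 2).symm.trans (by rw [hodd])⟩
  rw [hk, pow_odd_of_sq (show target X * target X = 1 from L.rp)] at this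
  exact this.symm

end Lifts

theorem exists_section (h : RootExt p) : ∃ s : GSix →* E, p.comp s = MonoidHom.id GSix := by
  obtain ⟨X, L⟩ := exists_lifts h
  have hp1 : (X 0 * X 1 * X 2 * X 5) ^ 5 = 1 := L.target_eq_one h
  have hrel : ∀ r ∈ sixSetup.rels, FreeGroup.lift (fun x : Six => X x.num) r = 1 := by
    rintro r (⟨x, -, y, -, rfl⟩ | hr)
    · rw [map_pow, map_mul, FreeGroup.lift_apply_of, FreeGroup.lift_apply_of]
      exact L.pair x y
    · simp only [sixSetup, Set.mem_ofPred_eq, List.mem_cons, List.not_mem_nil, or_false] at hr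
      rcases hr with rfl | rfl | rfl
      · simp only [map_mul, map_inv, map_pow, FreeGroup.lift_apply_of]
        exact mul_inv_eq_one.2 L.rt
      · simp only [map_mul, map_pow, FreeGroup.lift_apply_of]
        exact hp1
      · simp only [map_mul, map_pow, FreeGroup.lift_apply_of]
        exact L.rr
  refine ⟨PresentedGroup.toGroup hrel, PresentedGroup.ext fun x => ?_⟩
  rw [MonoidHom.comp_apply, PresentedGroup.toGroup.of, L.map x.num (by cases x <;> decide), MonoidHom.id_apply]
  cases x <;> rfl

end Cfsg.Agent.MultGTwoFour
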