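import Cfsg.Agent.Lib.MultGTwoFour.Parity
import Cfsg.Prelude.Def_KGroupFacts
import Mathlib.GroupTheory.FiniteAbelian.Duality
import Mathlib.RingTheory.RootsOfUnity.AlgebraicallyClosed
import Mathlib.Analysis.Complex.Polynomial.Basic

/-!
# The multiplier of `G₂(4)` has order at most two

* `exists_generator` : the kernel of a stem extension is generated by a commutator of order at most two
-/

set_option autoImplicit false
set_option maxRecDepth 100000
set_option linter.style.haveILetI false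

namespace Cfsg.Agent.MultGTwoFour

open Cfsg.Agent.CosetEnum Cfsg.Agent.SuzGTwo Cfsg.Agent.JTwoInGTwo
open Cfsg.Agent.CosetEnum.Data (ev ev_append)
open scoped commutatorElement

theorem commutator_congr {G : Type*} [Group G] {a a' b b' : G} (ha : a⁻¹ * a' ∈ Subgroup.center G)
    (hb : b⁻¹ * b' ∈ Subgroup.center G) : ⁅a', b'⁆ = ⁅a, b⁆ := by
  have ca := Subgroup.mem_center_iff.1 ha
  have cb := Subgroup.mem_center_iff.1 hb
  rw [show a' = a * (a⁻¹ * a') by group, show b' = b * (b⁻¹ * b') by group]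
  generalize a⁻¹ * a' = k at ca ⊢
  generalize b⁻¹ * b' = l at cb ⊢
  simp only [commutatorElement_def, mul_inv_rev]
  calc a * k * (b * l) * (k⁻¹ * a⁻¹) * (l⁻¹ * b⁻¹) = a * (k * (b * l)) * k⁻¹ * (a⁻¹ * l⁻¹) * b⁻¹ := by group
    _ = a * (b * l * k) * k⁻¹ * (a⁻¹ * l⁻¹) * b⁻¹ := by rw [ca (b * l)]
    _ = a * b * (l * a⁻¹) * l⁻¹ * b⁻¹ := by group
    _ = a * b * (a⁻¹ * l) * l⁻¹ * b⁻¹ := by rw [cb a⁻¹]
    _ = a * b * a⁻¹ * b⁻¹ := by group

/-- The conjugate of `e` by `(bcdcd)^5` commutes with `e`. -/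
theorem g_twist : Commute (letterEl 4)
    ((letterEl 1 * letterEl 2 * letterEl 3 * letterEl 2 * letterEl 3) ^ 5 * letterEl 4 *
      ((letterEl 1 * letterEl 2 * letterEl 3 * letterEl 2 * letterEl 3) ^ 5)⁻¹) := by
  set u := letterEl 1 * letterEl 2 * letterEl 3 * letterEl 2 * letterEl 3 with hu
  have h := ev_eq_of_evP
    (v := ((List.replicate 5 [1, 2, 3, 2, 3]).flatten ++ [4] ++ (List.replicate 5 [3, 2, 3, 2, 1]).flatten) ++ [4])
    (w := [4] ++ ((List.replicate 5 [1, 2, 3, 2, 3]).flatten ++ [4] ++ (List.replicate 5 [3, 2, 3, 2, 1]).flatten))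
    (by decide +kernel)
  simp only [ev_append, ev_replicate, ev, one_mul] at h
  have hi : letterEl 3 * letterEl 2 * letterEl 3 * letterEl 2 * letterEl 1 = u⁻¹ := by
    have s := fun a (ha : a < 6) => inv_eq_of_mul_eq_one_right (letter_sq ha)
    rw [hu, mul_inv_rev, mul_inv_rev, mul_inv_rev, mul_inv_rev, s 1 (by decide), s 2 (by decide),
      s 3 (by decide)]
    group
  rw [hi, inv_pow, ← mul_assoc, ← hu] at h
  show _ = _
  exact h

universe u

/-- The kernel of a stem extension is generated by an element of order at most two. -/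
theorem exists_generator {Γ : Type u} [Group Γ] [Finite Γ] (σ : Γ →* GSix) (hσ : Cfsg.IsStemExtension σ) :
    ∃ z ∈ σ.ker, z * z = 1 ∧ σ.ker ≤ Subgroup.zpowers z := by
  classical
  obtain ⟨hsurj, hcen, hcomm⟩ := hσ
  obtain ⟨U, hU⟩ := hsurj (letterEl 4)
  obtain ⟨V, hV⟩ := hsurj ((letterEl 1 * letterEl 2 * letterEl 3 * letterEl 2 * letterEl 3) ^ 5)
  set z := ⁅U, V * U * V⁻¹⁆ with hz
  have hzk : z ∈ σ.ker := by
    rw [MonoidHom.mem_ker, hz, map_commutatorElement, map_mul, map_mul, map_inv, hU, hV]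
    exact commutatorElement_eq_one_iff_commute.2 g_twist
  have hU2 : U * U ∈ Subgroup.center Γ := hcen (by
    rw [MonoidHom.mem_ker, map_mul, hU, letter_sq (by decide)])
  have hz2 : z * z = 1 := by
    have cz := Subgroup.mem_center_iff.1 (hcen hzk)
    have c2 := Subgroup.mem_center_iff.1 hU2
    have e : U * (V * U * V⁻¹) * U⁻¹ = z * (V * U * V⁻¹) := by
      rw [hz, commutatorElement_def, inv_mul_cancel_right]
    generalize V * U * V⁻¹ = W at e
    have e2 : U * U * W * (U * U)⁻¹ = z * z * W := by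
      calc U * U * W * (U * U)⁻¹ = U * (U * W * U⁻¹) * U⁻¹ := by group
        _ = U * z * (W * U⁻¹) := by rw [e]; group
        _ = z * U * (W * U⁻¹) := by rw [cz U]
        _ = z * (U * W * U⁻¹) := by group
        _ = _ := by rw [e, mul_assoc]
    rw [← c2 W, mul_inv_cancel_right] at e2
    exact mul_eq_right.1 e2.symm
  refine ⟨z, hzk, hz2, fun a ha => ?_⟩
  by_contra hna
  letI : CommGroup σ.ker :=
    { (inferInstance : Group σ.ker) with
      mul_comm := fun a b => Subtype.ext (Subgroup.mem_center_iff.1 (hcen b.2) a) }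
  set Z := (Subgroup.zpowers z).subgroupOf σ.ker with hZ
  have hne : (QuotientGroup.mk ⟨a, ha⟩ : σ.ker ⧸ Z) ≠ 1 := fun e =>
    hna (Subgroup.mem_subgroupOf.1 ((QuotientGroup.eq_one_iff _).1 e))
  obtain ⟨φ, hφ⟩ := CommGroup.exists_apply_ne_one_of_hasEnoughRootsOfUnity (σ.ker ⧸ Z) ℂ hne
  let χ : σ.ker →* ℂˣ := φ.comp (QuotientGroup.mk' Z)
  have hχz : χ ⟨z, hzk⟩ = 1 := by
    show φ (QuotientGroup.mk' Z ⟨z, hzk⟩) = 1
    rw [show QuotientGroup.mk' Z ⟨z, hzk⟩ = 1 from
      (QuotientGroup.eq_one_iff _).2 (Subgroup.mem_zpowers z), map_one]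
  let N : Subgroup (Γ × ℂˣ) := (MonoidHom.prod σ.ker.subtype χ).range
  have hNc : N ≤ Subgroup.center (Γ × ℂˣ) := by
    rintro _ ⟨k, rfl⟩
    refine Subgroup.mem_center_iff.2 fun g => Prod.ext ?_ (mul_comm _ _)
    exact Subgroup.mem_center_iff.1 (hcen k.2) g.1
  have : N.Normal := ⟨fun n hn g => by rwa [Subgroup.mem_center_iff.1 (hNc hn) g, mul_inv_cancel_right]⟩
  let p : (Γ × ℂˣ) ⧸ N →* GSix := QuotientGroup.lift N (σ.comp (MonoidHom.fst Γ ℂˣ)) (by
    rintro _ ⟨k, rfl⟩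
    exact k.2)
  have hp : ∀ g : Γ × ℂˣ, p (QuotientGroup.mk g) = σ g.1 := fun g => rfl
  have hkc : ∀ x ∈ p.ker, x ∈ Subgroup.center ((Γ × ℂˣ) ⧸ N) := by
    intro x hx
    obtain ⟨g, rfl⟩ := QuotientGroup.mk_surjective x
    refine Subgroup.mem_center_iff.2 fun y => ?_
    obtain ⟨g', rfl⟩ := QuotientGroup.mk_surjective y
    rw [← QuotientGroup.mk_mul, ← QuotientGroup.mk_mul]
    congr 1
    exact Prod.ext (Subgroup.mem_center_iff.1 (hcen hx) g'.1) (mul_comm _ _)
  have hext : RootExt p := by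
    refine ⟨fun g => ?_, hkc, fun x hx n hn => ?_, fun U' V' hU' hV' => ?_⟩
    · obtain ⟨y, rfl⟩ := hsurj g
      exact ⟨QuotientGroup.mk (y, 1), rfl⟩
    · obtain ⟨g, rfl⟩ := QuotientGroup.mk_surjective x
      obtain ⟨r, hr⟩ := IsAlgClosed.exists_pow_nat_eq ((g.2 : ℂ) * (((χ ⟨g.1, hx⟩)⁻¹ : ℂˣ) : ℂ)) hn
      have hr0 : r ≠ 0 := by
        rintro rfl
        rw [zero_pow hn.ne'] at hr
        exact mul_ne_zero g.2.ne_zero (Units.ne_zero _) hr.symm
      refine ⟨QuotientGroup.mk (1, Units.mk0 r hr0), map_one σ, ?_⟩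
      rw [← QuotientGroup.mk_pow, QuotientGroup.eq]
      refine ⟨⟨g.1, hx⟩, Prod.ext ?_ ?_⟩
      · simp
      · refine Units.ext ?_
        simp only [Prod.pow_mk, Prod.inv_mk, Prod.snd_mul, MonoidHom.prod_apply, Units.val_mul,
          Units.val_inv_eq_inv_val, Units.val_pow_eq_pow_val, Units.val_mk0, hr]
        field_simp
    · obtain ⟨⟨u, c⟩, rfl⟩ := QuotientGroup.mk_surjective U'
      obtain ⟨⟨v, d⟩, rfl⟩ := QuotientGroup.mk_surjective V'
      rw [hp] at hU' hV'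
      have hu : U⁻¹ * u ∈ Subgroup.center Γ := hcen (by rw [MonoidHom.mem_ker, map_mul, map_inv, hU, hU', inv_mul_cancel])
      have hv : V⁻¹ * v ∈ Subgroup.center Γ := hcen (by rw [MonoidHom.mem_ker, map_mul, map_inv, hV, hV', inv_mul_cancel])
      have hw : (V * U * V⁻¹)⁻¹ * (v * u * v⁻¹) ∈ Subgroup.center Γ := hcen (by
        rw [MonoidHom.mem_ker]; simp only [map_mul, map_inv, hU, hU', hV, hV', inv_mul_cancel])
      rw [← commutatorElement_eq_one_iff_commute, ← QuotientGroup.mk_inv, ← QuotientGroup.mk_mul,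
        ← QuotientGroup.mk_mul, ← QuotientGroup.mk'_apply N (u, c),
        ← QuotientGroup.mk'_apply N ((v, d) * (u, c) * (v, d)⁻¹), ← map_commutatorElement]
      refine (QuotientGroup.eq_one_iff _).2 ⟨⟨z, hzk⟩, Prod.ext ?_ ?_⟩
      · show z = ⁅u, v * u * v⁻¹⁆
        rw [commutator_congr hu hw]
      · show χ ⟨z, hzk⟩ = _
        rw [hχz, commutatorElement_def]
        simp only [Prod.snd_mul, Prod.snd_inv, Prod.mk_mul_mk]
        simp [mul_comm]
  obtain ⟨s, hs⟩ := exists_section hext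
  have hle : commutator ((Γ × ℂˣ) ⧸ N) ≤ s.range := by
    rw [commutator_def, Subgroup.commutator_le]
    intro x _ y _
    have hk : ∀ w, w⁻¹ * s (p w) ∈ Subgroup.center ((Γ × ℂˣ) ⧸ N) := fun w => hkc _ (by
      rw [MonoidHom.mem_ker, map_mul, map_inv, ← MonoidHom.comp_apply, hs, MonoidHom.id_apply, inv_mul_cancel])
    rw [← commutator_congr (hk x) (hk y), ← map_commutatorElement]
    exact ⟨_, rfl⟩
  let ι : Γ →* (Γ × ℂˣ) ⧸ N := (QuotientGroup.mk' N).comp (MonoidHom.inl Γ ℂˣ)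
  have hmem : ι a ∈ commutator ((Γ × ℂˣ) ⧸ N) := by
    have : (commutator Γ).map ι ≤ commutator ((Γ × ℂˣ) ⧸ N) := by
      rw [commutator_def, Subgroup.map_commutator]
      exact Subgroup.commutator_mono le_top le_top
    exact this ⟨a, hcomm ha, rfl⟩
  obtain ⟨g, hg⟩ := hle hmem
  have hg1 : g = 1 := by
    have h1 := congrArg p hg
    rw [← MonoidHom.comp_apply, hs, MonoidHom.id_apply] at h1
    exact h1.trans ha
  rw [hg1, map_one] at hg
  obtain ⟨k, hk⟩ := (QuotientGroup.eq_one_iff _).1 hg.symm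
  have hk1 : k.1 = a := congrArg Prod.fst hk
  have hk2 : χ k = 1 := congrArg Prod.snd hk
  exact hφ (by
    have e : k = ⟨a, ha⟩ := Subtype.ext hk1
    rw [← e]
    exact hk2)

end Cfsg.Agent.MultGTwoFour
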