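import Cfsg.Agent.Lib.MultGTwoFour.Data
import Cfsg.Agent.Lib.IcosianGroup.GTwoIndex

/-!
# Words in the six letters of `G₂(4)`

* `map_ev`, `ev_replicate` : values of words
* `ev_eq_of_evP` : two words with the same matrices are equal in the presented group
-/

set_option autoImplicit false
set_option maxRecDepth 100000

namespace Cfsg.Agent.MultGTwoFour

open Cfsg.Agent.CosetEnum Cfsg.Agent.SuzGTwo Cfsg.Agent.JTwoInGTwo
open Cfsg.Agent.CosetEnum.Data (ev ev_append)

theorem map_ev {M N : Type*} [Group M] [Group N] (f : M →* N) (el : ℕ → M) :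
    ∀ w : List ℕ, f (ev el w) = ev (fun a => f (el a)) w
  | [] => map_one f
  | a :: v => by
    show f (ev el v * el a) = _
    rw [map_mul, map_ev f el v]
    rfl

theorem ev_single {M : Type*} [Group M] (el : ℕ → M) (a : ℕ) : ev el [a] = el a := one_mul _

theorem ev_replicate {M : Type*} [Group M] (el : ℕ → M) (w : List ℕ) :
    ∀ n : ℕ, ev el (List.replicate n w).flatten = ev el w ^ n
  | 0 => (pow_zero _).symm
  | n + 1 => by rw [List.replicate_succ, List.flatten_cons, ev_append, ev_replicate el w n, pow_succ]

theorem matHom_letter {a : ℕ} (ha : a < 6) : matHom (letterEl a) = gmat a := by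
  have h : ∀ x : Six, matHom (PresentedGroup.of x) = gmat x.num := fun x => PresentedGroup.toGroup.of _
  interval_cases a
  · exact h .a
  · exact h .b
  · exact h .c
  · exact h .d
  · exact h .e
  · exact h .f

theorem ev_eq_of_evP {v w : List ℕ}
    (h : ((evP v == evP w) && v.all (fun a => Nat.blt a 6) && w.all fun a => Nat.blt a 6) = true) :
    ev letterEl v = ev letterEl w := by
  simp only [Bool.and_eq_true, beq_iff_eq, List.all_eq_true, Nat.blt_eq] at h
  obtain ⟨⟨e, hv⟩, hw⟩ := h
  apply matHom_spec.1
  rw [map_ev, map_ev, Setup.ev_congr v fun a ha => matHom_letter (hv a ha),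
    Setup.ev_congr w fun a ha => matHom_letter (hw a ha)]
  exact Units.ext (by rw [coe_ev, coe_ev, e])

theorem pow_eq_one_of_evP {w : List ℕ} {n : ℕ}
    (h : ((evP (List.replicate n w).flatten == evP []) &&
      (List.replicate n w).flatten.all (fun a => Nat.blt a 6) && ([] : List ℕ).all fun a => Nat.blt a 6) = true) :
    ev letterEl w ^ n = 1 := by
  rw [← ev_replicate, ev_eq_of_evP h]
  rfl

theorem letter_sq {a : ℕ} (ha : a < 6) : letterEl a * letterEl a = 1 := by
  have h : ∀ a < 6, ev letterEl [a, a] = ev letterEl [] := by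
    intro a ha
    interval_cases a <;> exact ev_eq_of_evP (by decide +kernel)
  simpa [ev] using h a ha

end Cfsg.Agent.MultGTwoFour
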